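import Cfsg.Agent.Lib.DesignAxial.Centre
import Cfsg.Agent.S0035

/-!
# A semiregular normal subgroup of the axis group
-/

set_option autoImplicit false
set_option linter.unusedSectionVars false

namespace CfsgLib.DesignAxial

open MulAction

variable {G P L : Type*} [Group G] [MulAction G P] [MulAction G L] [Membership P L] [IsDesignAction G P L]
  {k l : ℕ} [Finite P] [Finite L] [Finite G] [hD : IsSymDesign P L k l] {B : L}

include hD

/-- A nontrivial axis group contains an axial group. -/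
theorem exists_isAxial (hne : axisGroup G B (P := P) ≠ ⊥)
    (hon : ∀ x y : P, x ∈ B → y ∈ B → ∃ h : G, h • B = B ∧ h • x = y)
    (hoff : ∀ x y : P, x ∉ B → y ∉ B → ∃ h : G, h • B = B ∧ h • x = y)
    (hblocks : ∀ C D : L, C ≠ B → D ≠ B → ∃ h : G, h • B = B ∧ h • C = D)
    (htrans : ∀ C : L, ∃ h : G, h • B = C) :
    ∃ N : Subgroup G, IsAxial G P B N := by
  classical
  cases nonempty_fintype G
  cases nonempty_fintype P
  set T := axisGroup G B (P := P)
  have hconj : ∀ h : G, h • B = B → ∀ g ∈ T, h * g * h⁻¹ ∈ T := fun h hh g hg x hx => by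
    rw [mul_smul, mul_smul, hg _ ((smul_mem_iff_of_fix (inv_smul_eq_iff.2 hh.symm) x).2 hx), smul_inv_smul]
  by_cases hfree : ∀ g ∈ T, ∀ x : P, x ∉ B → g • x = x → g = 1
  · exact ⟨T, le_rfl, hconj, hne, hfree, hon, hoff, hblocks, htrans⟩
  push Not at hfree
  obtain ⟨g₀, hg₀, x₀, hx₀, hgx₀, hg₀1⟩ := hfree
  have hTB : ∀ g ∈ T, ∀ x : P, x ∉ B → g • x ∉ B := fun g hg x hx h =>
    hx ((smul_mem_iff_of_fix (smul_block_of_fix hg) x).1 h)
  let e : ∀ x y : P, x ∉ B → y ∉ B → ∃ h : G, ∀ g : T, (h * (g : G) * h⁻¹ ∈ T) ∧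
      ((g : G) • x = x ↔ (h * (g : G) * h⁻¹) • y = y) := fun x y hx hy => by
    obtain ⟨h, hh, rfl⟩ := hoff x y hx hy
    refine ⟨h, fun g => ⟨hconj h hh g g.2, ?_⟩⟩
    rw [mul_smul, mul_smul, inv_smul_smul, smul_left_cancel_iff]
  have hle : ∀ x y : P, x ∉ B → y ∉ B → {g : T | (g : G) • x = x}.ncard ≤ {g : T | (g : G) • y = y}.ncard := by
    intro x y hx hy
    obtain ⟨h, hh⟩ := e x y hx hy
    exact Set.ncard_le_ncard_of_injOn (fun g => (⟨h * (g : G) * h⁻¹, (hh g).1⟩ : T)) (fun g hg => (hh g).2.1 hg)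
      (fun a _ b _ he => Subtype.ext (mul_left_cancel (mul_right_cancel (congrArg Subtype.val he)))) (Set.toFinite _)
  set c := {g : T | (g : G) • x₀ = x₀}.ncard with hc
  have hc2 : 2 ≤ c := (Set.one_lt_ncard (Set.toFinite _)).2
    ⟨1, one_smul G x₀, ⟨g₀, hg₀⟩, hgx₀, fun h => hg₀1 (congrArg Subtype.val h).symm⟩
  have hcard : ∀ x : P, x ∉ B → (orbit T x).ncard * c = Nat.card T := by
    intro x hx
    rw [hc, le_antisymm (hle x₀ x hx₀ hx) (hle x x₀ hx hx₀), ← Nat.card_coe_set_eq, ← Nat.card_coe_set_eq,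
      Nat.card_congr (orbitEquivQuotientStabilizer T x)]
    exact (Subgroup.card_eq_card_quotient_mul_card_subgroup _).symm
  have hcount : {x : P | x ∉ B}.ncard * c < {x : P | x ∉ B}.ncard + Nat.card T := by
    have hdc := double_count (fun (g : T) (x : {x : P // x ∉ B}) => (g : G) • (x : P) = (x : P))
    have h2 : ∀ x : {x : P // x ∉ B}, {g : T | (g : G) • (x : P) = (x : P)}.ncard = c := fun x =>
      le_antisymm (hle x x₀ x.2 hx₀) (hle x₀ x hx₀ x.2)
    simp only [h2, Finset.sum_const, Finset.card_univ, smul_eq_mul, ← Nat.card_eq_fintype_card] at hdc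
    rw [← Nat.card_coe_set_eq, show Nat.card ↥{x : P | x ∉ B} = Nat.card {x : P // x ∉ B} from rfl, ← hdc,
      ← Finset.add_sum_erase _ _ (Finset.mem_univ (1 : T))]
    refine Nat.lt_of_le_of_lt (m := Nat.card {x : P // x ∉ B} + (Nat.card T - 1)) (add_le_add ?_ ?_) ?_
    · rw [← Set.ncard_univ]
      exact Set.ncard_le_ncard (Set.subset_univ _) (Set.toFinite _)
    · have hb : ∀ g ∈ (Finset.univ : Finset T).erase 1,
          {x : {x : P // x ∉ B} | (g : G) • (x : P) = (x : P)}.ncard ≤ 1 := fun g hg =>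
        (Set.ncard_le_one (Set.toFinite _)).2 fun a ha b hb => Subtype.ext
          (fixed_off_unique g.2 (fun h => Finset.ne_of_mem_erase hg (Subtype.ext h)) a.2 b.2 ha hb)
      refine (Finset.sum_le_card_nsmul _ _ 1 hb).trans ?_
      simp [Nat.card_eq_fintype_card]
    · exact Nat.add_lt_add_left (Nat.sub_lt Nat.card_pos Nat.one_pos) _
  have htransT : ∀ x : P, x ∉ B → x ∈ orbit T x₀ := by
    intro x hx
    by_contra hnot
    have hsub : ∀ y : P, y ∉ B → orbit T y ⊆ {x : P | x ∉ B} := by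
      rintro y hy _ ⟨g, rfl⟩
      exact hTB g g.2 y hy
    have hdisj : Disjoint (orbit T x₀) (orbit T x) := by
      refine Set.disjoint_left.2 fun y h1 h2 => hnot ?_
      rw [← orbit_eq_iff] at h1 h2 ⊢
      exact h2.symm.trans h1
    have h1 := Set.ncard_le_ncard (Set.union_subset (hsub x₀ hx₀) (hsub x hx)) (Set.toFinite _)
    rw [Set.ncard_union_eq hdisj (Set.toFinite _) (Set.toFinite _)] at h1
    have h2 := hcard x₀ hx₀
    have h3 := hcard x hx
    nlinarith
  let K : Subgroup T := stabilizer T x₀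
  have hK : Cfsg.IsFrobeniusComplement K := by
    refine ⟨fun h => ?_, fun h => ?_, fun g hg => ?_⟩
    · exact hg₀1 (congrArg Subtype.val ((Subgroup.eq_bot_iff_forall _).1 h ⟨g₀, hg₀⟩ hgx₀))
    · obtain ⟨z, hz, hzx⟩ : ∃ z : P, z ∉ B ∧ z ≠ x₀ := by
        obtain ⟨z, hz1, hz2⟩ := Set.exists_ne_of_one_lt_ncard (show 1 < {x : P | x ∉ B}.ncard by
          rw [ncard_off]; have := hD.big; omega) x₀
        exact ⟨z, hz1, hz2⟩
      obtain ⟨g, rfl⟩ := htransT z hz
      exact hzx (mem_stabilizer_iff.1 (h ▸ Subgroup.mem_top g : g ∈ K))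
    · refine (Subgroup.eq_bot_iff_forall _).2 fun y hy => ?_
      obtain ⟨hy1, hy2⟩ := Subgroup.mem_inf.1 hy
      rw [CfsgLib.FrobRealize.Kernel.mem_conj_smul, mem_stabilizer_iff, mul_smul, mul_smul, inv_smul_eq_iff] at hy2
      by_contra hy0
      exact hg (fixed_off_unique y.2 (fun h => hy0 (Subtype.ext h)) (hTB g g.2 x₀ hx₀) hx₀ hy2 hy1)
  obtain ⟨N', hN', -, hcompl⟩ := Cfsg.Agent.S0035.result K hK
  have hmem : ∀ g : T, g ∈ N' ↔ g = 1 ∨ ∀ x : P, x ∉ B → (g : G) • x ≠ x := by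
    intro g
    rw [← SetLike.mem_coe, hN', CfsgLib.FrobRealize.Kernel.mem_frobeniusKernel]
    refine or_congr_right ⟨fun h x hx hgx => ?_, fun h c hcK => h _ (hTB c c.2 x₀ hx₀) ?_⟩
    · obtain ⟨c, rfl⟩ := htransT x hx
      exact h c (mem_stabilizer_iff.2 (show (c⁻¹ * g * c : T) • x₀ = x₀ by
        rw [mul_smul, mul_smul, inv_smul_eq_iff]; exact hgx))
    · rw [mem_stabilizer_iff, mul_smul, mul_smul, inv_smul_eq_iff] at hcK
      exact hcK
  refine ⟨N'.map T.subtype, Subgroup.map_subtype_le _, ?_, fun h => ?_, ?_, hon, hoff, hblocks, htrans⟩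
  · rintro h hh _ ⟨g, hg, rfl⟩
    refine ⟨⟨h * g * h⁻¹, hconj h hh g g.2⟩, (hmem _).2 ?_, rfl⟩
    rcases (hmem g).1 hg with rfl | hmove
    · exact Or.inl (Subtype.ext (by simp))
    · refine Or.inr fun x hx hfix => hmove (h⁻¹ • x) ?_ ?_
      · exact fun h' => hx ((smul_mem_iff_of_fix (inv_smul_eq_iff.2 hh.symm) x).1 h')
      · rw [show ((⟨h * g * h⁻¹, hconj h hh g g.2⟩ : T) : G) = h * g * h⁻¹ from rfl, mul_smul, mul_smul] at hfix
        exact eq_inv_smul_iff.2 hfix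
  · rw [Subgroup.map_eq_bot_iff_of_injective _ (Subgroup.subtype_injective T)] at h
    rw [h] at hcompl
    exact hK.2.1 (Subgroup.isComplement'_bot_left.1 hcompl)
  · rintro _ ⟨g, hg, rfl⟩ x hx hfix
    rcases (hmem g).1 hg with rfl | hmove
    · rfl
    · exact absurd hfix (hmove x hx)

end CfsgLib.DesignAxial
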