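import Cfsg.Agent.Lib.DesignAxial.Centre

/-!
# Two-transitive groups with a second action of the same degree

An incidence structure invariant under a group two-transitive on points and transitive on equally
many blocks is a symmetric design, and the group is two-transitive on blocks.
-/

set_option autoImplicit false
set_option linter.unusedSectionVars false

namespace CfsgLib.DesignAxial

open MulAction

variable {G P L : Type*} [Group G] [MulAction G P] [MulAction G L] [Membership P L] [IsDesignAction G P L]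
  [Finite P] [Finite L] [Finite G]

theorem exists_isSymDesign (h2 : IsMultiplyPretransitive G P 2) (hL : IsPretransitive G L)
    (hcard : Nat.card P = Nat.card L) (B : L) (hk2 : 2 ≤ {x : P | x ∈ B}.ncard)
    (hkv : {x : P | x ∈ B}.ncard + 2 ≤ Nat.card P) :
    ∃ l, IsSymDesign P L {x : P | x ∈ B}.ncard l := by
  classical
  cases nonempty_fintype P
  cases nonempty_fintype L
  rw [is_two_pretransitive_iff] at h2
  set k := {x : P | x ∈ B}.ncard with hk
  obtain ⟨a, b, haB, hbB, hab⟩ := (Set.one_lt_ncard_iff (Set.toFinite _)).1 (show 1 < {x : P | x ∈ B}.ncard by omega)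
  obtain ⟨c, hc⟩ : ∃ c : P, c ∉ B := by
    obtain ⟨c, hc⟩ := Set.nonempty_of_ncard_ne_zero (s := {x : P | x ∈ B}ᶜ)
      (by rw [Set.ncard_compl]; omega)
    exact ⟨c, hc⟩
  have hpre : IsPretransitive G P := ⟨fun x y => by
    by_cases hxy : x = y
    · exact ⟨1, by rw [one_smul, hxy]⟩
    obtain ⟨g, hg, -⟩ := h2 (a := x) (b := y) (c := y) (d := x) hxy (Ne.symm hxy)
    exact ⟨g, hg⟩⟩
  have hon : ∀ C : L, {x : P | x ∈ C}.ncard = k := by
    intro C
    obtain ⟨g, rfl⟩ := exists_smul_eq G B C
    rw [hk, show {x : P | x ∈ g • B} = (g • ·) '' {x : P | x ∈ B} from Set.ext fun x => ⟨fun hx => ⟨g⁻¹ • x, by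
        rwa [Set.mem_ofPred_eq, ← IsDesignAction.smul_mem_smul g, smul_inv_smul], smul_inv_smul g x⟩, by
        rintro ⟨y, hy, rfl⟩
        exact (IsDesignAction.smul_mem_smul g y B).2 hy⟩,
      Set.ncard_image_of_injective _ (MulAction.injective g)]
  have himg : ∀ (g : G) (s : L → Prop) (s' : L → Prop), (∀ C, s' (g • C) ↔ s C) →
      {C : L | s' C}.ncard = {C : L | s C}.ncard := fun g s s' h => by
    rw [show {C : L | s' C} = (g • ·) '' {C : L | s C} from Set.ext fun C => ⟨fun hC => ⟨g⁻¹ • C, (h _).1 (by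
        rwa [smul_inv_smul]), smul_inv_smul g C⟩, by
        rintro ⟨D, hD, rfl⟩
        exact (h D).2 hD⟩, Set.ncard_image_of_injective _ (MulAction.injective g)]
  have hthrough : ∀ x : P, {C : L | x ∈ C}.ncard = k := by
    have hconst : ∀ x : P, {C : L | x ∈ C}.ncard = {C : L | a ∈ C}.ncard := fun x => by
      obtain ⟨g, rfl⟩ := exists_smul_eq G a x
      exact himg g _ _ fun C => IsDesignAction.smul_mem_smul g a C
    have hdc := double_count (fun (x : P) (C : L) => x ∈ C)
    simp only [hconst, hon, Finset.sum_const, Finset.card_univ, smul_eq_mul, ← Nat.card_eq_fintype_card, hcard] at hdc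
    exact fun x => (hconst x).trans (Nat.eq_of_mul_eq_mul_left (by omega) hdc)
  set l := {C : L | a ∈ C ∧ b ∈ C}.ncard with hl
  have hjoin : ∀ x y : P, x ≠ y → {C : L | x ∈ C ∧ y ∈ C}.ncard = l := fun x y hxy => by
    obtain ⟨g, rfl, rfl⟩ := h2 hab hxy
    exact himg g _ _ fun C => by rw [IsDesignAction.smul_mem_smul, IsDesignAction.smul_mem_smul]
  have hpos : 0 < l := (Set.ncard_pos (Set.toFinite _)).2 ⟨B, haB, hbB⟩
  have hlt : l < k := by
    rw [← hjoin a c (fun e => hc (e ▸ haB)), ← hthrough a]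
    exact Set.ncard_lt_ncard (Set.ssubset_iff_exists.2 ⟨fun C hC => hC.1, B, haB, fun h => hc h.2⟩) (Set.toFinite _)
  -- pairs of points through a point
  have hcount : l * (Nat.card P - 1) = k * (k - 1) := by
    have hdc := double_count (fun (y : {y : P // y ≠ a}) (C : L) => a ∈ C ∧ (y : P) ∈ C)
    have h2' : ∀ C : L, {y : {y : P // y ≠ a} | a ∈ C ∧ (y : P) ∈ C}.ncard = if a ∈ C then k - 1 else 0 := by
      intro C
      split_ifs with hC
      · rw [← Set.ncard_image_of_injective _ Subtype.val_injective, ← hon C,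
          ← Set.ncard_sdiff_singleton_of_mem (show a ∈ {x : P | x ∈ C} from hC)]
        congr 1
        ext y
        simp [hC, and_comm]
      · simp [hC]
    simp only [fun y : {y : P // y ≠ a} => hjoin a y (Ne.symm y.2), h2', Finset.sum_const, smul_eq_mul,
      Finset.sum_ite, Finset.sum_const_zero, add_zero, Finset.card_univ, Fintype.card_subtype_compl,
      Fintype.card_subtype_eq] at hdc
    rw [Nat.card_eq_fintype_card, mul_comm, hdc, mul_zero, add_zero]
    congr 1
    rw [← hthrough a, Set.ncard_eq_toFinset_card', Set.toFinset_setOf]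
  refine ⟨l, ⟨hcard, hon, hthrough, hjoin, fun C D hCD => ?_, hcount, hpos, hlt, hkv⟩⟩
  -- the variance argument
  let f : L → ℤ := fun D => ({x : P | x ∈ C ∧ x ∈ D}.ncard : ℤ)
  have hf : ∀ D, f D = ∑ x : P, if x ∈ C ∧ x ∈ D then (1 : ℤ) else 0 := fun D => by
    simp [f, Finset.sum_boole, Set.ncard_eq_toFinset_card']
  have hsetC : (Finset.univ.filter fun x : P => x ∈ C).card = k := by
    rw [← hon C, Set.ncard_eq_toFinset_card', Set.toFinset_setOf]
  have hs1 : ∑ D : L, f D = k * k := by
    simp only [hf]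
    rw [Finset.sum_comm]
    rw [Finset.sum_congr rfl (g := fun x => if x ∈ C then (k : ℤ) else 0) fun x _ => by
      split_ifs with hx
      · simp only [hx, true_and, Finset.sum_boole]
        rw [← hthrough x, Set.ncard_eq_toFinset_card', Set.toFinset_setOf]
      · simp [hx]]
    rw [← Finset.sum_filter, Finset.sum_const, hsetC, nsmul_eq_mul]
  have hs2 : ∑ D : L, f D * f D = (k : ℤ) * k + k * (k - 1) * l := by
    simp only [hf, Finset.sum_mul_sum]
    rw [Finset.sum_comm]
    rw [Finset.sum_congr rfl fun x _ => Finset.sum_comm]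
    rw [Finset.sum_congr rfl (g := fun x => if x ∈ C then (k : ℤ) + (k - 1) * l else 0) fun x _ => ?_]
    · rw [← Finset.sum_filter, Finset.sum_const, hsetC, nsmul_eq_mul]
      ring
    split_ifs with hx
    · rw [Finset.sum_congr rfl (g := fun y => if y ∈ C then (if y = x then (k : ℤ) else l) else 0) fun y _ => ?_]
      · rw [← Finset.sum_filter, ← Finset.add_sum_erase _ _ (show x ∈ Finset.univ.filter (fun y => y ∈ C) by simp [hx]),
          if_pos rfl, Finset.sum_congr rfl (g := fun _ => (l : ℤ)) (fun y hy => if_neg (Finset.ne_of_mem_erase hy)),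
          Finset.sum_const, Finset.card_erase_of_mem (by simp [hx]), hsetC, nsmul_eq_mul,
          Nat.cast_sub (show 1 ≤ k by omega), Nat.cast_one]
      split_ifs with hy hyx
      · subst hyx
        simp only [hx, true_and, ite_mul, one_mul, zero_mul, ← ite_and, and_self, Finset.sum_boole]
        rw [← hthrough y, Set.ncard_eq_toFinset_card', Set.toFinset_setOf]
      · simp only [hx, hy, true_and, ite_mul, one_mul, zero_mul, ← ite_and, Finset.sum_boole]
        rw [← hjoin x y (Ne.symm hyx), Set.ncard_eq_toFinset_card', Set.toFinset_setOf]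
      · simp [hy]
    · simp [hx]
  have hfC : f C = k := by simp [f, hon]
  have hzero : ∑ D ∈ Finset.univ.erase C, (f D - l) * (f D - l) = 0 := by
    have hexp : ∀ D, (f D - l) * (f D - l) = f D * f D - 2 * l * f D + l * l := fun D => by ring
    rw [Finset.sum_congr rfl fun D _ => hexp D, Finset.sum_add_distrib, Finset.sum_sub_distrib, ← Finset.mul_sum,
      Finset.sum_erase_eq_sub (Finset.mem_univ C), Finset.sum_erase_eq_sub (Finset.mem_univ C), hs1, hs2, hfC,
      Finset.sum_const, Finset.card_erase_of_mem (Finset.mem_univ C), Finset.card_univ, ← Nat.card_eq_fintype_card,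
      ← hcard, nsmul_eq_mul]
    have hc' : (l : ℤ) * ((Nat.card P - 1 : ℕ) : ℤ) = k * (k - 1) := by
      rw [← Nat.cast_mul, hcount, Nat.cast_mul, Nat.cast_sub (show 1 ≤ k by omega), Nat.cast_one]
    linear_combination (l : ℤ) * hc'
  have h := (Finset.sum_eq_zero_iff_of_nonneg fun D _ => mul_self_nonneg _).1 hzero D
    (Finset.mem_erase.2 ⟨Ne.symm hCD, Finset.mem_univ D⟩)
  have := mul_self_eq_zero.1 h
  simp only [f] at this
  omega

/-- A group is two-transitive on blocks as well, and a block stabilizer has two point orbits. -/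
theorem block_transitivity {k l : ℕ} [IsSymDesign P L k l] (h2 : IsMultiplyPretransitive G P 2)
    (hL : IsPretransitive G L) (B : L) :
    (∀ C D : L, C ≠ B → D ≠ B → ∃ h : G, h • B = B ∧ h • C = D) ∧
    ((∀ x y : P, x ∈ B → y ∈ B → ∃ h : G, h • B = B ∧ h • x = y) →
      ∀ x y : P, x ∉ B → y ∉ B → ∃ h : G, h • B = B ∧ h • x = y) := by
  classical
  cases nonempty_fintype P
  cases nonempty_fintype L
  cases nonempty_fintype G
  rw [is_two_pretransitive_iff] at h2
  have hk := IsSymDesign.lt (P := P) (L := L)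
  have hpre : ∀ x y : P, ∃ g : G, g • x = y := fun x y => by
    by_cases hxy : x = y
    · exact ⟨1, by rw [one_smul, hxy]⟩
    obtain ⟨g, hg, -⟩ := h2 (a := x) (b := y) (c := y) (d := x) hxy (Ne.symm hxy)
    exact ⟨g, hg⟩
  have horb : Nat.card (orbitRel.Quotient G (P × P)) = Nat.card (orbitRel.Quotient G (L × L)) := by
    rw [Nat.card_eq_fintype_card, Nat.card_eq_fintype_card]
    refine Nat.eq_of_mul_eq_mul_right (Fintype.card_pos (α := G)) ?_
    rw [← sum_card_fixedBy_eq_card_orbits_mul_card_group, ← sum_card_fixedBy_eq_card_orbits_mul_card_group]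
    refine Finset.sum_congr rfl fun g _ => ?_
    rw [← Nat.card_eq_fintype_card, ← Nat.card_eq_fintype_card, Nat.card_coe_set_eq, Nat.card_coe_set_eq,
      show fixedBy (P × P) g = fixedBy P g ×ˢ fixedBy P g from Set.ext fun z => by simp [Prod.ext_iff],
      show fixedBy (L × L) g = fixedBy L g ×ˢ fixedBy L g from Set.ext fun z => by simp [Prod.ext_iff],
      Set.ncard_prod, Set.ncard_prod, ncard_fixed_eq (L := L)]
  have hP2 : Nat.card (orbitRel.Quotient G (P × P)) ≤ 2 := by
    obtain ⟨a, ha⟩ := exists_off (P := P) B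
    obtain ⟨b, hb⟩ : ∃ b : P, b ∈ B := Set.nonempty_of_ncard_ne_zero
      (show {x : P | x ∈ B}.ncard ≠ 0 by rw [IsSymDesign.on]; omega)
    let f : Fin 2 → orbitRel.Quotient G (P × P) := ![Quotient.mk'' (a, a), Quotient.mk'' (a, b)]
    refine (Nat.card_le_card_of_surjective f fun o => ?_).trans_eq (Nat.card_fin 2)
    induction o using Quotient.inductionOn' with
    | h z =>
      obtain ⟨x, y⟩ := z
      by_cases hxy : x = y
      · subst hxy
        obtain ⟨g, rfl⟩ := hpre a x
        exact ⟨0, (Quotient.sound' (show orbitRel G (P × P) (g • a, g • a) (a, a) from ⟨g, rfl⟩)).symm⟩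
      · obtain ⟨g, rfl, rfl⟩ := h2 (show a ≠ b from fun e => ha (e ▸ hb)) hxy
        exact ⟨1, (Quotient.sound' (show orbitRel G (P × P) (g • a, g • b) (a, b) from ⟨g, rfl⟩)).symm⟩
  have hblocks : ∀ C D : L, C ≠ B → D ≠ B → ∃ h : G, h • B = B ∧ h • C = D := by
    intro C D hC hD
    by_contra hno
    push Not at hno
    have hdist : Function.Injective (![Quotient.mk'' (B, B), Quotient.mk'' (B, C), Quotient.mk'' (B, D)] :
        Fin 3 → orbitRel.Quotient G (L × L)) := by
      have h1 : ∀ X Y : L, (Quotient.mk'' (B, X) : orbitRel.Quotient G (L × L)) = Quotient.mk'' (B, Y) →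
          ∃ g : G, g • B = B ∧ g • Y = X := fun X Y he => by
        obtain ⟨g, hg⟩ := Quotient.exact' he
        exact ⟨g, congrArg Prod.fst hg, congrArg Prod.snd hg⟩
      have hB : ∀ X : L, (∃ g : G, g • B = B ∧ g • B = X) → X = B := fun X ⟨g, h1, h2⟩ => h2.symm.trans h1
      intro i j he
      fin_cases i <;> fin_cases j <;> simp at he ⊢
      · exact hC ((fun ⟨g, e1, e2⟩ => MulAction.injective g (e2.trans e1.symm)) (h1 _ _ he))
      · exact hD ((fun ⟨g, e1, e2⟩ => MulAction.injective g (e2.trans e1.symm)) (h1 _ _ he))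
      · exact hC (hB _ (h1 _ _ he))
      · exact (fun ⟨g, e1, e2⟩ => hno g⁻¹ (inv_smul_eq_iff.2 e1.symm) (inv_smul_eq_iff.2 e2.symm)) (h1 _ _ he)
      · exact hD (hB _ (h1 _ _ he))
      · exact (fun ⟨g, e1, e2⟩ => hno g e1 e2) (h1 _ _ he)
    have := Nat.card_le_card_of_injective _ hdist
    rw [Nat.card_fin, ← horb] at this
    omega
  refine ⟨hblocks, fun hon x y hx hy => ?_⟩
  obtain ⟨b, hb⟩ : ∃ b : P, b ∈ B := Set.nonempty_of_ncard_ne_zero
    (show {x : P | x ∈ B}.ncard ≠ 0 by rw [IsSymDesign.on]; omega)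
  set H := stabilizer G B
  by_contra hno
  push Not at hno
  have hdist : Function.Injective (![Quotient.mk'' b, Quotient.mk'' x, Quotient.mk'' y] :
      Fin 3 → orbitRel.Quotient H P) := by
    have h1 : ∀ u w : P, (Quotient.mk'' u : orbitRel.Quotient H P) = Quotient.mk'' w →
        ∃ g : G, g • B = B ∧ g • w = u := fun u w he => by
      obtain ⟨g, hg⟩ := Quotient.exact' he
      exact ⟨g, g.2, hg⟩
    have hbx : ∀ u w : P, u ∈ B → w ∉ B → (∃ g : G, g • B = B ∧ g • w = u) → False := fun u w hu hw ⟨g, e1, e2⟩ =>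
      hw ((smul_mem_iff_of_fix e1 w).1 (e2 ▸ hu))
    have hbx' : ∀ u w : P, u ∉ B → w ∈ B → (∃ g : G, g • B = B ∧ g • w = u) → False := fun u w hu hw ⟨g, e1, e2⟩ =>
      hu (e2 ▸ (smul_mem_iff_of_fix e1 w).2 hw)
    intro i j he
    fin_cases i <;> fin_cases j <;> simp at he ⊢
    · exact hbx b x hb hx (h1 _ _ he)
    · exact hbx b y hb hy (h1 _ _ he)
    · exact hbx' x b hx hb (h1 _ _ he)
    · exact (fun ⟨g, e1, e2⟩ => hno g⁻¹ (inv_smul_eq_iff.2 e1.symm) (inv_smul_eq_iff.2 e2.symm)) (h1 _ _ he)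
    · exact hbx' y b hy hb (h1 _ _ he)
    · exact (fun ⟨g, e1, e2⟩ => hno g e1 e2) (h1 _ _ he)
  have h3 := Nat.card_le_card_of_injective _ hdist
  rw [Nat.card_fin, card_orbits_eq (L := L) H] at h3
  obtain ⟨C, hC⟩ : ∃ C : L, C ≠ B := by
    obtain ⟨C, hxC, -⟩ := exists_block_sep (L := L) (show x ≠ b from fun e => hx (e ▸ hb))
    exact ⟨C, fun e => hx (e ▸ hxC)⟩
  let f : Fin 2 → orbitRel.Quotient H L := ![Quotient.mk'' B, Quotient.mk'' C]
  have h4 := (Nat.card_le_card_of_surjective f fun o => by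
    induction o using Quotient.inductionOn' with
    | h D =>
      by_cases hD : D = B
      · exact ⟨0, by simp [f, hD]⟩
      · obtain ⟨g, hg, rfl⟩ := hblocks C D hC hD
        exact ⟨1, (Quotient.sound' (show orbitRel H L (g • C) C from ⟨⟨g, hg⟩, rfl⟩)).symm⟩).trans_eq (Nat.card_fin 2)
  omega

end CfsgLib.DesignAxial
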