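import Cfsg.Agent.Lib.DesignAxial.Recognition
import Cfsg.Agent.Lib.DesignAxial.Setting
import Cfsg.Agent.Lib.DesignAxial.Kernel

/-!
# Two-transitive groups with a subgroup of index equal to the degree

If such a subgroup is intransitive without fixed points and acts unfaithfully on an orbit, the
group contains the projective special linear group.
-/

set_option autoImplicit false
set_option linter.unusedSectionVars false

namespace CfsgLib.DesignAxial

open MulAction
open scoped LinearAlgebra.Projectivization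

variable {G Ω : Type*} [Group G] [MulAction G Ω]

/-- The translates of an orbit of a subgroup, indexed by cosets. -/
def OrbitBlock (H : Subgroup G) (_a : Ω) : Type _ := G ⧸ H

instance orbitBlockAction (H : Subgroup G) (a : Ω) : MulAction G (OrbitBlock H a) :=
  inferInstanceAs (MulAction G (G ⧸ H))

instance orbitBlockMem (H : Subgroup G) (a : Ω) : Membership Ω (OrbitBlock H a) :=
  ⟨fun C x => Quotient.liftOn' C (fun g => g⁻¹ • x ∈ orbit H a) fun g g' hgg => propext (by
    rw [QuotientGroup.leftRel_apply] at hgg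
    have e : g'⁻¹ • x = (⟨g⁻¹ * g', hgg⟩⁻¹ : H) • (g⁻¹ • x) := by
      rw [Subgroup.smul_def, InvMemClass.coe_inv, smul_smul]
      congr 1
      group
    rw [e]
    refine ⟨fun h => mem_orbit_of_mem_orbit _ h, fun h => ?_⟩
    have h' := mem_orbit_of_mem_orbit (⟨g⁻¹ * g', hgg⟩ : H) h
    rwa [smul_inv_smul] at h')⟩

/-- The translate by `g`. -/
def orbitBlock (H : Subgroup G) (a : Ω) (g : G) : OrbitBlock H a := (QuotientGroup.mk g : G ⧸ H)

theorem mem_orbitBlock_mk (H : Subgroup G) (a x : Ω) (g : G) :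
    x ∈ orbitBlock H a g ↔ g⁻¹ • x ∈ orbit H a := Iff.rfl

instance orbitBlockDesignAction [FaithfulSMul G Ω] (H : Subgroup G) (a : Ω) :
    IsDesignAction G Ω (OrbitBlock H a) where
  smul_mem_smul g x C := by
    induction C using QuotientGroup.induction_on with
    | H g' =>
      show (g * g')⁻¹ • g • x ∈ orbit H a ↔ g'⁻¹ • x ∈ orbit H a
      rw [mul_inv_rev, mul_smul, inv_smul_smul]
  eq_one g h := eq_of_smul_eq_smul fun x : Ω => (h x).trans (one_smul G x).symm

/-- Ito's theorem. -/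
theorem ito_unfaithful [Finite G] [FaithfulSMul G Ω] [Finite Ω] (h2 : IsMultiplyPretransitive G Ω 2)
    (H : Subgroup G) (hidx : H.index = Nat.card Ω) (hnt : ¬IsPretransitive H Ω)
    (hfix : ∀ a : Ω, ∃ h : H, h • a ≠ a) (a : Ω) (hunf : ∃ h : H, h ≠ 1 ∧ ∀ b ∈ orbit H a, h • b = b) :
    ∃ (m : ℕ) (F : Type) (_ : Field F) (_ : Fintype F), 2 ≤ m ∧
      Nat.card Ω = (Fintype.card F ^ (m + 1) - 1) / (Fintype.card F - 1) ∧
      ∃ M : Subgroup G, M.Normal ∧
        Nonempty (M ≃* Matrix.ProjectiveSpecialLinearGroup (Fin (m + 1)) F) ∧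
        Subgroup.centralizer (M : Set G) = ⊥ := by
  classical
  let L := OrbitBlock H a
  let B : L := orbitBlock H a 1
  haveI : Finite L := inferInstanceAs (Finite (G ⧸ H))
  have hL : IsPretransitive G L := inferInstanceAs (IsPretransitive G (G ⧸ H))
  have hB : ∀ x : Ω, x ∈ B ↔ x ∈ orbit H a := fun x =>
    (mem_orbitBlock_mk H a x 1).trans (by rw [inv_one, one_smul])
  have hstab : ∀ h : H, (h : G) • B = B := fun h =>
    QuotientGroup.eq.2 (by simp [inv_mem h.2] : ((h : G) * 1)⁻¹ * 1 ∈ H)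
  have hset : {x : Ω | x ∈ B} = orbit H a := Set.ext hB
  have htwo : ∀ b : Ω, 2 ≤ (orbit H b).ncard := fun b => by
    obtain ⟨h, hh⟩ := hfix b
    rw [← Set.ncard_pair hh]
    refine Set.ncard_le_ncard ?_ (Set.toFinite _)
    rintro c (hc | hc) <;> rw [hc]
    exacts [mem_orbit b h, mem_orbit_self b]
  obtain ⟨b, hb⟩ : ∃ b : Ω, b ∉ orbit H a := by
    by_contra h
    push Not at h
    refine hnt ⟨fun x y => ?_⟩
    obtain ⟨g₁, rfl⟩ := h x
    obtain ⟨g₂, rfl⟩ := h y
    exact ⟨g₂ * g₁⁻¹, by show (g₂ * g₁⁻¹) • g₁ • a = g₂ • a; rw [← mul_smul, inv_mul_cancel_right]⟩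
  have hkv : {x : Ω | x ∈ B}.ncard + 2 ≤ Nat.card Ω := by
    rw [hset]
    have hdisj : Disjoint (orbit H a) (orbit H b) := Set.disjoint_left.2 fun x hxa hxb => hb (by
      rw [← orbit_eq_iff.2 hxa, orbit_eq_iff.2 hxb]
      exact mem_orbit_self b)
    calc (orbit H a).ncard + 2 ≤ (orbit H a).ncard + (orbit H b).ncard := Nat.add_le_add_left (htwo b) _
      _ = (orbit H a ∪ orbit H b).ncard := (Set.ncard_union_eq hdisj).symm
      _ ≤ Nat.card Ω := by rw [← Set.ncard_univ]; exact Set.ncard_le_ncard (Set.subset_univ _)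
  obtain ⟨l, hD⟩ := exists_isSymDesign (G := G) h2 hL (hidx.symm : Nat.card Ω = Nat.card L) B
    (hset ▸ htwo a) hkv
  obtain ⟨hblocks, honoff⟩ := block_transitivity (P := Ω) h2 hL B
  have hon : ∀ x y : Ω, x ∈ B → y ∈ B → ∃ h : G, h • B = B ∧ h • x = y := fun x y hx hy => by
    obtain ⟨g₁, rfl⟩ := (hB x).1 hx
    obtain ⟨g₂, rfl⟩ := (hB y).1 hy
    exact ⟨((g₂ * g₁⁻¹ : H) : G), hstab _, by
      show (g₂ * g₁⁻¹) • g₁ • a = g₂ • a
      rw [← mul_smul, inv_mul_cancel_right]⟩
  have hne : axisGroup G B (P := Ω) ≠ ⊥ := fun e => by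
    obtain ⟨h, h1, hh⟩ := hunf
    have hmem : (h : G) ∈ axisGroup G B (P := Ω) := fun x hx => hh x ((hB x).1 hx)
    rw [e, Subgroup.mem_bot] at hmem
    exact h1 (Subtype.ext hmem)
  obtain ⟨N, hA⟩ := exists_isAxial hne hon (honoff hon) hblocks fun C => exists_smul_eq G B C
  haveI := hA.isMulCommutative
  obtain ⟨m, F, _, _, φ, ψ, hm, hinc, hcard⟩ := hA.exists_coordinates
  obtain ⟨M, hM⟩ := hA.recognition φ ψ hinc hcard
  refine ⟨m, F, inferInstance, inferInstance, hm, ?_, M, hM⟩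
  rw [Nat.card_congr φ, Projectivization.card'', Nat.card_fun, Nat.card_eq_fintype_card,
    Nat.card_eq_fintype_card, Fintype.card_fin]

end CfsgLib.DesignAxial
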