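import Mathlib

/-!
# Symmetric designs and their automorphisms

`IsSymDesign P L k l` says that points `P` and blocks `L` form a symmetric design with parameters
`k`, `l`.  The main result here is that a nontrivial automorphism fixing a block pointwise fixes
at most one point off that block.
-/

set_option autoImplicit false
set_option linter.unusedSectionVars false

namespace CfsgLib.DesignAxial

open MulAction

/-- An action by automorphisms of an incidence structure, faithful on points. -/
class IsDesignAction (G P L : Type*) [Group G] [MulAction G P] [MulAction G L] [Membership P L] :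
    Prop where
  smul_mem_smul : ∀ (g : G) (x : P) (C : L), g • x ∈ g • C ↔ x ∈ C
  eq_one : ∀ g : G, (∀ x : P, g • x = x) → g = 1

/-- A symmetric design with block size `k` and meeting number `l`. -/
class IsSymDesign (P L : Type*) [Membership P L] (k l : outParam ℕ) : Prop where
  card_eq : Nat.card P = Nat.card L
  on : ∀ C : L, {x : P | x ∈ C}.ncard = k
  through : ∀ x : P, {C : L | x ∈ C}.ncard = k
  join : ∀ x y : P, x ≠ y → {C : L | x ∈ C ∧ y ∈ C}.ncard = l
  meet : ∀ C D : L, C ≠ D → {x : P | x ∈ C ∧ x ∈ D}.ncard = l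
  count : l * (Nat.card P - 1) = k * (k - 1)
  pos : 0 < l
  lt : l < k
  big : k + 2 ≤ Nat.card P

theorem double_count {α β : Type*} [Fintype α] [Fintype β] (R : α → β → Prop) :
    ∑ a, {b | R a b}.ncard = ∑ b, {a | R a b}.ncard := by
  classical
  simp only [Set.ncard_eq_toFinset_card', Set.toFinset_setOf]
  simp only [Finset.card_filter]
  exact Finset.sum_comm

/-- The elements fixing a block pointwise. -/
def axisGroup (G : Type*) {P L : Type*} [Group G] [MulAction G P] [Membership P L] (B : L) : Subgroup G where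
  carrier := {g | ∀ x : P, x ∈ B → g • x = x}
  one_mem' := fun x _ => one_smul G x
  mul_mem' := fun {g h} hg hh x hx => by rw [mul_smul, hh x hx, hg x hx]
  inv_mem' := fun {g} hg x hx => inv_smul_eq_iff.2 (hg x hx).symm

/-- The elements fixing every block through a point. -/
def centreGroup (G : Type*) {P : Type*} (L : Type*) [Group G] [MulAction G L] [Membership P L] (p : P) :
    Subgroup G where
  carrier := {g | ∀ C : L, p ∈ C → g • C = C}
  one_mem' := fun C _ => one_smul G C
  mul_mem' := fun {g h} hg hh C hC => by rw [mul_smul, hh C hC, hg C hC]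
  inv_mem' := fun {g} hg C hC => inv_smul_eq_iff.2 (hg C hC).symm

section Design

variable {G P L : Type*} [Group G] [MulAction G P] [MulAction G L] [Membership P L] [IsDesignAction G P L]
  {k l : ℕ} [Finite P] [Finite L] [hD : IsSymDesign P L k l]

include hD

theorem eq_of_subset {C D : L} {S : Set P} (hS : l < S.ncard) (hC : ∀ x ∈ S, x ∈ C) (hD : ∀ x ∈ S, x ∈ D) :
    C = D := by
  by_contra h
  have := Set.ncard_le_ncard (show S ⊆ {x : P | x ∈ C ∧ x ∈ D} from fun x hx => ⟨hC x hx, hD x hx⟩) (Set.toFinite _)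
  rw [IsSymDesign.meet C D h] at this
  omega

theorem exists_block_sep {x y : P} (h : x ≠ y) : ∃ C : L, x ∈ C ∧ y ∉ C := by
  by_contra hh
  push Not at hh
  have h1 := IsSymDesign.through (L := L) x
  rw [show {C : L | x ∈ C} = {C : L | x ∈ C ∧ y ∈ C} from Set.ext fun C => ⟨fun hx => ⟨hx, hh C hx⟩, And.left⟩,
    IsSymDesign.join x y h] at h1
  have := IsSymDesign.lt (P := P) (L := L)
  omega

theorem ncard_on_diff {C D : L} (h : C ≠ D) : {x : P | x ∈ C ∧ x ∉ D}.ncard = k - l := by
  rw [show {x : P | x ∈ C ∧ x ∉ D} = {x : P | x ∈ C} \ {x : P | x ∈ C ∧ x ∈ D} from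
    Set.ext fun x => ⟨fun ⟨a, b⟩ => ⟨a, fun c => b c.2⟩, fun ⟨a, b⟩ => ⟨a, fun c => b ⟨a, c⟩⟩⟩,
    Set.ncard_sdiff (fun x hx => hx.1) (Set.toFinite _), IsSymDesign.on, IsSymDesign.meet C D h]

theorem ncard_through_diff {x y : P} (h : x ≠ y) : {C : L | x ∈ C ∧ y ∉ C}.ncard = k - l := by
  rw [show {C : L | x ∈ C ∧ y ∉ C} = {C : L | x ∈ C} \ {C : L | x ∈ C ∧ y ∈ C} from
    Set.ext fun C => ⟨fun ⟨a, b⟩ => ⟨a, fun c => b c.2⟩, fun ⟨a, b⟩ => ⟨a, fun c => b ⟨a, c⟩⟩⟩,
    Set.ncard_sdiff (fun C hC => hC.1) (Set.toFinite _), IsSymDesign.through, IsSymDesign.join x y h]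

theorem ncard_off (B : L) : {x : P | x ∉ B}.ncard = Nat.card P - k := by
  have h := Set.ncard_add_ncard_compl {x : P | x ∈ B}
  rw [IsSymDesign.on, show {x : P | x ∈ B}ᶜ = {x : P | x ∉ B} from rfl] at h
  omega

theorem exists_off (B : L) : ∃ x : P, x ∉ B := by
  have h := ncard_off (P := P) B
  have := IsSymDesign.big (P := P) (L := L)
  obtain ⟨x, hx⟩ := Set.nonempty_of_ncard_ne_zero (show {x : P | x ∉ B}.ncard ≠ 0 by omega)
  exact ⟨x, hx⟩

/-- An automorphism fixes as many blocks as points. -/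
theorem ncard_fixed_eq (g : G) : (fixedBy P g).ncard = (fixedBy L g).ncard := by
  classical
  cases nonempty_fintype P
  cases nonempty_fintype L
  have hl := IsSymDesign.lt (P := P) (L := L)
  have h := double_count (fun (x : P) (C : L) => x ∈ C ∧ g • x ∈ C)
  have hP : ∀ x : P, {C : L | x ∈ C ∧ g • x ∈ C}.ncard = l + if x ∈ fixedBy P g then k - l else 0 := by
    intro x
    by_cases hx : g • x = x
    · rw [if_pos (show x ∈ fixedBy P g from hx), Nat.add_sub_cancel' hl.le, ← IsSymDesign.through (L := L) x]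
      simp [hx]
    · rw [if_neg (show x ∉ fixedBy P g from hx), add_zero, IsSymDesign.join x (g • x) (Ne.symm hx)]
  have hL : ∀ C : L, {x : P | x ∈ C ∧ g • x ∈ C}.ncard = l + if C ∈ fixedBy L g then k - l else 0 := by
    intro C
    have he : {x : P | x ∈ C ∧ g • x ∈ C} = {x : P | x ∈ C ∧ x ∈ g⁻¹ • C} := Set.ext fun x => and_congr_right fun _ => by
      conv_rhs => rw [← IsDesignAction.smul_mem_smul g, smul_inv_smul]
    rw [he]
    by_cases hC : g • C = C
    · rw [if_pos (show C ∈ fixedBy L g from hC), Nat.add_sub_cancel' hl.le, inv_smul_eq_iff.2 hC.symm, ← IsSymDesign.on (P := P) C]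
      simp
    · rw [if_neg (show C ∉ fixedBy L g from hC), add_zero, IsSymDesign.meet C (g⁻¹ • C)]
      exact fun e => hC (inv_smul_eq_iff.1 e.symm).symm
  simp only [hP, hL, Finset.sum_add_distrib, Finset.sum_const, Finset.card_univ, smul_eq_mul,
    ← Finset.sum_filter] at h
  rw [← Nat.card_eq_fintype_card, ← Nat.card_eq_fintype_card, IsSymDesign.card_eq (P := P) (L := L)] at h
  rw [Set.ncard_eq_toFinset_card', Set.ncard_eq_toFinset_card']
  have hk : 0 < k - l := by omega
  simp only [Set.toFinset]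
  have h' := Nat.eq_of_mul_eq_mul_right hk (Nat.add_left_cancel h)
  convert h' using 2 <;> (ext; simp)

theorem smul_block_of_fix {g : G} {B : L} (hg : g ∈ axisGroup G B (P := P)) : g • B = B := by
  refine eq_of_subset (P := P) (S := {x : P | x ∈ B}) ?_ (fun x hx => ?_) (fun x hx => hx)
  · rw [IsSymDesign.on]
    exact IsSymDesign.lt P L
  · rw [← hg x hx]
    exact (IsDesignAction.smul_mem_smul g x B).2 hx

theorem smul_mem_iff_of_fix {g : G} {C : L} (h : g • C = C) (x : P) : g • x ∈ C ↔ x ∈ C := by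
  conv_lhs => rw [← h]
  exact IsDesignAction.smul_mem_smul g x C

theorem smul_eq_of_centre {g : G} {p : P} (hg : g ∈ centreGroup G L p) : g • p = p := by
  by_contra h
  obtain ⟨C, hpC, hC⟩ := exists_block_sep (L := L) (Ne.symm h)
  exact hC ((smul_mem_iff_of_fix (hg C hpC) p).2 hpC)

/-- A fixed point off the axis is a centre. -/
theorem mem_centreGroup_of_fix {g : G} {B : L} (hg : g ∈ axisGroup G B (P := P)) {x : P} (hx : x ∉ B)
    (hgx : g • x = x) : g ∈ centreGroup G L x := by
  intro C hC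
  have hCB : C ≠ B := fun e => hx (e ▸ hC)
  have hkey : ∀ y : P, y ∈ C → g • y = y → y ∈ g • C := fun y hy he => by
    rw [← he]
    exact (IsDesignAction.smul_mem_smul g y C).2 hy
  refine eq_of_subset (P := P) (S := insert x {y : P | y ∈ C ∧ y ∈ B}) ?_ ?_ ?_
  · rw [Set.ncard_insert_of_notMem (fun h => hx h.2) (Set.toFinite _), IsSymDesign.meet C B hCB]
    exact Nat.lt_succ_self _
  · rintro y (rfl | hy)
    · exact hkey y hC hgx
    · exact hkey y hy.1 (hg y hy.2)
  · rintro y (rfl | hy)
    exacts [hC, hy.1]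

/-- An automorphism fixing a block pointwise, with two centres not both on it, is trivial. -/
theorem eq_one_of_two_centres {g : G} {B : L} (hg : g ∈ axisGroup G B (P := P)) {x y : P} (hx : x ∉ B)
    (hxy : x ≠ y) (hcx : g ∈ centreGroup G L x) (hcy : g ∈ centreGroup G L y) : g = 1 := by
  by_contra hne
  have hgx := smul_eq_of_centre hcx
  have hgy := smul_eq_of_centre hcy
  -- every moved point lies on the line through `x` and `y`
  have hline : ∀ z : P, g • z ≠ z → ∀ C : L, x ∈ C → y ∈ C → z ∈ C := by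
    intro z hz
    have hzx : z ≠ x := fun e => hz (e ▸ hgx)
    have hzy : z ≠ y := fun e => hz (e ▸ hgy)
    have hsame : ∀ w : P, z ≠ w → g ∈ centreGroup G L w →
        {C : L | z ∈ C ∧ w ∈ C} = {C : L | z ∈ C ∧ g • z ∈ C} := by
      intro w hzw hw
      refine Set.eq_of_subset_of_ncard_le (fun C hC => ⟨hC.1, (smul_mem_iff_of_fix (hw C hC.2) z).2 hC.1⟩) ?_
        (Set.toFinite _)
      rw [IsSymDesign.join z (g • z) (Ne.symm hz), IsSymDesign.join z w hzw]
    have heq : {C : L | z ∈ C ∧ x ∈ C} = {C : L | x ∈ C ∧ y ∈ C} := by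
      refine Set.eq_of_subset_of_ncard_le (fun C hC => ⟨hC.2, ?_⟩) ?_ (Set.toFinite _)
      · rw [hsame x hzx hcx, ← hsame y hzy hcy] at hC
        exact hC.2
      · rw [IsSymDesign.join z x hzx, IsSymDesign.join x y hxy]
    intro C h1 h2
    exact (heq.symm.subset (show C ∈ {C : L | x ∈ C ∧ y ∈ C} from ⟨h1, h2⟩)).1
  obtain ⟨C, hCx, hCy⟩ : ∃ C : L, x ∈ C ∧ y ∈ C :=
    Set.nonempty_of_ncard_ne_zero (show {C : L | x ∈ C ∧ y ∈ C}.ncard ≠ 0 by
      rw [IsSymDesign.join x y hxy]; exact (IsSymDesign.pos P L).ne')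
  have hCB : C ≠ B := fun e => hx (e ▸ hCx)
  -- at most `k - l` points move
  have hmoved : {z : P | g • z ≠ z}.ncard ≤ k - l := by
    rw [← ncard_on_diff hCB]
    exact Set.ncard_le_ncard (fun z hz => ⟨hline z hz C hCx hCy, fun hb => hz (hg z hb)⟩) (Set.toFinite _)
  obtain ⟨z, hz⟩ : ∃ z : P, g • z ≠ z := by
    by_contra h
    push Not at h
    exact hne (IsDesignAction.eq_one (L := L) g h)
  -- at least `2 (k - l)` blocks move
  have hblocks : 2 * (k - l) ≤ {C : L | g • C ≠ C}.ncard := by
    have hsub : {C : L | z ∈ C ∧ g • z ∉ C} ∪ {C : L | g • z ∈ C ∧ z ∉ C} ⊆ {C : L | g • C ≠ C} := by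
      rintro C (⟨h1, h2⟩ | ⟨h1, h2⟩) e
      · exact h2 ((smul_mem_iff_of_fix e z).2 h1)
      · exact h2 ((smul_mem_iff_of_fix e z).1 h1)
    refine le_trans ?_ (Set.ncard_le_ncard hsub (Set.toFinite _))
    rw [Set.ncard_union_eq ?_ (Set.toFinite _) (Set.toFinite _), ncard_through_diff (Ne.symm hz),
      ncard_through_diff hz]
    · omega
    · exact Set.disjoint_left.2 fun C h1 h2 => h2.2 h1.1
  have h1 := Set.ncard_add_ncard_compl (fixedBy P g)
  have h2 := Set.ncard_add_ncard_compl (fixedBy L g)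
  rw [show (fixedBy P g)ᶜ = {z : P | g • z ≠ z} from rfl, ncard_fixed_eq (L := L)] at h1
  rw [show (fixedBy L g)ᶜ = {C : L | g • C ≠ C} from rfl, ← IsSymDesign.card_eq (P := P)] at h2
  have := IsSymDesign.lt (P := P) (L := L)
  omega

/-- An automorphism fixing a block pointwise and two points off it is trivial. -/
theorem eq_one_of_two_fixed {g : G} {B : L} (hg : g ∈ axisGroup G B (P := P)) {x y : P} (hx : x ∉ B)
    (hy : y ∉ B) (hxy : x ≠ y) (hgx : g • x = x) (hgy : g • y = y) : g = 1 :=
  eq_one_of_two_centres hg hx hxy (mem_centreGroup_of_fix hg hx hgx) (mem_centreGroup_of_fix hg hy hgy)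

/-- An element fixing a block pointwise and a point off it has at most that point as a fixed point there. -/
theorem fixed_off_unique {g : G} {B : L} (hg : g ∈ axisGroup G B (P := P)) (hg1 : g ≠ 1) {x y : P}
    (hx : x ∉ B) (hy : y ∉ B) (hgx : g • x = x) (hgy : g • y = y) : x = y :=
  by_contra fun h => hg1 (eq_one_of_two_fixed hg hx hy h hgx hgy)

end Design

end CfsgLib.DesignAxial
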