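import Cfsg.Agent.Lib.DesignAxial.Basic

/-!
# Axial automorphisms have centres

`IsAxial G P L B N` says that `N` is a nontrivial normal subgroup of the stabilizer of the block `B`
fixing `B` pointwise and semiregular off `B`, the stabilizer having one orbit on the points on `B`,
off `B`, and on the other blocks.
-/

set_option autoImplicit false
set_option linter.unusedSectionVars false

namespace CfsgLib.DesignAxial

open MulAction

section Orbits

variable {G P L : Type*} [Group G] [MulAction G P] [MulAction G L] [Membership P L] [IsDesignAction G P L]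
  {k l : ℕ} [Finite P] [Finite L] [hD : IsSymDesign P L k l]

include hD

/-- A subgroup has as many orbits on points as on blocks. -/
theorem card_orbits_eq [Finite G] (K : Subgroup G) :
    Nat.card (orbitRel.Quotient K P) = Nat.card (orbitRel.Quotient K L) := by
  classical
  cases nonempty_fintype P
  cases nonempty_fintype L
  cases nonempty_fintype K
  rw [Nat.card_eq_fintype_card, Nat.card_eq_fintype_card]
  refine Nat.eq_of_mul_eq_mul_right (Fintype.card_pos (α := K)) ?_
  rw [← sum_card_fixedBy_eq_card_orbits_mul_card_group, ← sum_card_fixedBy_eq_card_orbits_mul_card_group]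
  refine Finset.sum_congr rfl fun g _ => ?_
  have h := ncard_fixed_eq (P := P) (L := L) (g : G)
  rw [← Nat.card_coe_set_eq, ← Nat.card_coe_set_eq, Nat.card_eq_fintype_card, Nat.card_eq_fintype_card] at h
  exact h

/-- An automorphism fixing every block is trivial. -/
theorem eq_one_of_fix_blocks {g : G} (h : ∀ C : L, g • C = C) : g = 1 :=
  IsDesignAction.eq_one (L := L) g fun x => smul_eq_of_centre (fun C _ => h C)

/-- A centre is unique. -/
theorem centre_unique {g : G} {p q : P} (hp : g ∈ centreGroup G L p) (hq : g ∈ centreGroup G L q)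
    (hf : (fixedBy L g).ncard ≤ k) : p = q := by
  by_contra h
  obtain ⟨C, hqC, hpC⟩ := exists_block_sep (L := L) (Ne.symm h)
  have := Set.ncard_le_ncard (show insert C {X : L | p ∈ X} ⊆ fixedBy L g from
    Set.insert_subset (hq C hqC) fun X hX => hp X hX) (Set.toFinite _)
  rw [Set.ncard_insert_of_notMem (show C ∉ {X : L | p ∈ X} from hpC) (Set.toFinite _), IsSymDesign.through] at this
  omega

end Orbits

/-- A nontrivial normal subgroup of a block stabilizer, fixing the block pointwise. -/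
structure IsAxial (G P : Type*) {L : Type*} [Group G] [MulAction G P] [MulAction G L] [Membership P L]
    (B : L) (N : Subgroup G) : Prop where
  le_axis : N ≤ axisGroup G B (P := P)
  conj : ∀ h : G, h • B = B → ∀ g ∈ N, h * g * h⁻¹ ∈ N
  ne_bot : N ≠ ⊥
  free : ∀ g ∈ N, ∀ x : P, x ∉ B → g • x = x → g = 1
  trans_on : ∀ x y : P, x ∈ B → y ∈ B → ∃ h : G, h • B = B ∧ h • x = y
  trans_off : ∀ x y : P, x ∉ B → y ∉ B → ∃ h : G, h • B = B ∧ h • x = y
  trans_blocks : ∀ C D : L, C ≠ B → D ≠ B → ∃ h : G, h • B = B ∧ h • C = D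
  transitive : ∀ C : L, ∃ h : G, h • B = C

section Axial

variable {G P L : Type*} [Group G] [MulAction G P] [MulAction G L] [Membership P L] [IsDesignAction G P L]
  {k l : ℕ} [Finite P] [Finite L] [hD : IsSymDesign P L k l] {B : L} {N : Subgroup G}

theorem IsAxial.smul (hA : IsAxial G P B N) (a : G) :
    IsAxial G P (a • B) (N.map (MulAut.conj a).toMonoidHom) := by
  have hst : ∀ h : G, h • a • B = a • B → (a⁻¹ * h * a) • B = B := fun h hh => by
    rw [mul_smul, mul_smul, hh, inv_smul_smul]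
  have hts : ∀ h : G, h • B = B → (a * h * a⁻¹) • a • B = a • B := fun h hh => by
    rw [mul_smul, mul_smul, inv_smul_smul, hh]
  have hmem : ∀ x : P, x ∈ a • B ↔ a⁻¹ • x ∈ B := fun x => by
    rw [← IsDesignAction.smul_mem_smul a (a⁻¹ • x) B, smul_inv_smul]
  refine ⟨?_, fun h hh => ?_, ?_, ?_, fun x y hx hy => ?_, fun x y hx hy => ?_, fun C D hC hD => ?_, fun C => ?_⟩
  · rintro _ ⟨g, hg, rfl⟩ x hx
    simp only [MulEquiv.coe_toMonoidHom, MulAut.conj_apply, mul_smul]
    rw [hA.le_axis hg _ ((hmem x).1 hx), smul_inv_smul]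
  · rintro _ ⟨g, hg, rfl⟩
    refine ⟨_, hA.conj _ (hst h hh) g hg, ?_⟩
    simp only [MulEquiv.coe_toMonoidHom, MulAut.conj_apply]
    group
  · exact fun h => hA.ne_bot ((Subgroup.map_eq_bot_iff_of_injective _ (MulAut.conj a).injective).1 h)
  · rintro _ ⟨g, hg, rfl⟩ x hx he
    simp only [MulEquiv.coe_toMonoidHom, MulAut.conj_apply, mul_smul] at he ⊢
    rw [hA.free g hg (a⁻¹ • x) (mt (hmem x).2 hx) (eq_inv_smul_iff.2 he), mul_one, mul_inv_cancel]
  · obtain ⟨h, hh, he⟩ := hA.trans_on _ _ ((hmem x).1 hx) ((hmem y).1 hy)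
    exact ⟨_, hts h hh, by rw [mul_smul, mul_smul, he, smul_inv_smul]⟩
  · obtain ⟨h, hh, he⟩ := hA.trans_off _ _ (mt (hmem x).2 hx) (mt (hmem y).2 hy)
    exact ⟨_, hts h hh, by rw [mul_smul, mul_smul, he, smul_inv_smul]⟩
  · obtain ⟨h, hh, he⟩ := hA.trans_blocks (a⁻¹ • C) (a⁻¹ • D) (fun e => hC (inv_smul_eq_iff.1 e))
      (fun e => hD (inv_smul_eq_iff.1 e))
    exact ⟨_, hts h hh, by rw [mul_smul, mul_smul, he, smul_inv_smul]⟩
  · obtain ⟨h, hh⟩ := hA.transitive C
    exact ⟨h * a⁻¹, by rw [mul_smul, inv_smul_smul, hh]⟩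

include hD

theorem IsAxial.fixedBy_eq (hA : IsAxial G P B N) {g : G} (hg : g ∈ N) (hg1 : g ≠ 1) :
    fixedBy P g = {x : P | x ∈ B} :=
  Set.ext fun x => ⟨fun h => by_contra fun hx => hg1 (hA.free g hg x hx h), hA.le_axis hg x⟩

theorem IsAxial.ncard_fixed (hA : IsAxial G P B N) {g : G} (hg : g ∈ N) (hg1 : g ≠ 1) :
    (fixedBy L g).ncard = k := by
  rw [← ncard_fixed_eq (P := P), hA.fixedBy_eq hg hg1, IsSymDesign.on]

omit [IsDesignAction G P L] in
theorem off_mul_lam : (Nat.card P - k) * l = (k - 1) * (k - l) := by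
  have h := hD.count
  have := hD.big
  have := hD.lt
  zify [(show 1 ≤ Nat.card P by omega), (show 1 ≤ k by omega), (show k ≤ Nat.card P by omega), hD.lt.le] at h ⊢
  linear_combination h

theorem IsAxial.ncard_fixed_through (hA : IsAxial G P B N) {g : G} (hg : g ∈ N) (hg1 : g ≠ 1) {y : P}
    (hy : y ∉ B) :
    {X : L | g • X = X ∧ y ∈ X} = {X : L | y ∈ X ∧ g • y ∈ X} := by
  classical
  cases nonempty_fintype P
  cases nonempty_fintype L
  have hsub : ∀ z : P, {X : L | g • X = X ∧ z ∈ X} ⊆ {X : L | z ∈ X ∧ g • z ∈ X} :=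
    fun z X hX => ⟨hX.2, (smul_mem_iff_of_fix hX.1 z).2 hX.2⟩
  have hmove : ∀ z : {z : P // z ∉ B}, (z : P) ≠ g • (z : P) := fun z e => hg1 (hA.free g hg z z.2 e.symm)
  have hle : ∀ z ∈ (Finset.univ : Finset {z : P // z ∉ B}), {X : L | g • X = X ∧ (z : P) ∈ X}.ncard ≤ l := fun z _ =>
    (Set.ncard_le_ncard (hsub z) (Set.toFinite _)).trans_eq (IsSymDesign.join _ _ (hmove z))
  have hdc := double_count (fun (z : {z : P // z ∉ B}) (X : {X : L // g • X = X}) => (z : P) ∈ (X : L))
  have hz : ∀ z : {z : P // z ∉ B}, {X : {X : L // g • X = X} | (z : P) ∈ (X : L)}.ncard =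
      {X : L | g • X = X ∧ (z : P) ∈ X}.ncard := fun z => by
    rw [← Set.ncard_image_of_injective _ Subtype.val_injective]
    congr 1
    ext X
    simp [and_comm]
  have hX : ∀ X : {X : L // g • X = X}, {z : {z : P // z ∉ B} | (z : P) ∈ (X : L)}.ncard =
      if (X : L) = B then 0 else k - l := fun X => by
    rw [← Set.ncard_image_of_injective _ Subtype.val_injective]
    split_ifs with hXB
    · rw [Set.ncard_eq_zero (Set.toFinite _)]
      ext z
      simp [hXB]
    · rw [← ncard_on_diff hXB]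
      congr 1
      ext z
      simp [and_comm]
  simp only [hz, hX, Finset.sum_ite, Finset.sum_const_zero, zero_add, Finset.sum_const, smul_eq_mul] at hdc
  have hcardX : (Finset.univ.filter fun X : {X : L // g • X = X} => ¬ (X : L) = B).card = k - 1 := by
    have hB : g • B = B := smul_block_of_fix (hA.le_axis hg)
    rw [show (Finset.univ.filter fun X : {X : L // g • X = X} => ¬ (X : L) = B) =
      Finset.univ.erase ⟨B, hB⟩ from by ext X; simp [← Subtype.coe_inj],
      Finset.card_erase_of_mem (Finset.mem_univ _), Finset.card_univ, ← Nat.card_eq_fintype_card]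
    have := hA.ncard_fixed hg hg1
    rw [← Nat.card_coe_set_eq] at this
    rw [← this]
    rfl
  rw [hcardX, ← off_mul_lam (P := P) (L := L)] at hdc
  have heq := (Finset.sum_eq_sum_iff_of_le hle).1 (by
    rw [hdc, Finset.sum_const, Finset.card_univ, smul_eq_mul, ← Nat.card_eq_fintype_card,
      show Nat.card {z : P // z ∉ B} = Nat.card P - k from (Nat.card_coe_set_eq _).trans (ncard_off B)]) ⟨y, hy⟩
    (Finset.mem_univ _)
  exact Set.eq_of_subset_of_ncard_le (hsub y)
    ((IsSymDesign.join _ _ (hmove ⟨y, hy⟩)).trans heq.symm).le (Set.toFinite _)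

/-- A block through `y` and `g y` is fixed by `g`. -/
theorem IsAxial.smul_eq (hA : IsAxial G P B N) {g : G} (hg : g ∈ N) {y : P} (hy : y ∉ B) {X : L} (h1 : y ∈ X)
    (h2 : g • y ∈ X) : g • X = X := by
  by_cases hg1 : g = 1
  · rw [hg1, one_smul]
  exact ((hA.ncard_fixed_through hg hg1 hy).symm.subset (show X ∈ {X : L | y ∈ X ∧ g • y ∈ X} from ⟨h1, h2⟩)).1

theorem IsAxial.exists_ne_smul (hA : IsAxial G P B N) {C : L} (hC : C ≠ B) : ∃ g ∈ N, g • C ≠ C := by
  by_contra h
  push Not at h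
  refine hA.ne_bot ((Subgroup.eq_bot_iff_forall _).2 fun g hg => eq_one_of_fix_blocks (P := P) fun D : L => ?_)
  by_cases hD : D = B
  · exact hD ▸ smul_block_of_fix (hA.le_axis hg)
  obtain ⟨a, ha, rfl⟩ := hA.trans_blocks C D hC hD
  have h1 := h _ (hA.conj a⁻¹ (inv_smul_eq_iff.2 ha.symm) g hg)
  rw [inv_inv, mul_smul, mul_smul, inv_smul_eq_iff] at h1
  exact h1

/-- The key inequality. -/
theorem IsAxial.le_ncard_fixed (hA : IsAxial G P B N) {g : G} (hg : g ∈ N) (hg1 : g ≠ 1) {C : L}
    (hC : C ≠ B) (hgC : g • C = C) {q : P} (hqB : q ∈ B) (hqC : q ∉ C) :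
    l ≤ {X : L | g • X = X ∧ q ∈ X}.ncard := by
  obtain ⟨a, rfl⟩ := hA.transitive C
  have hA' := hA.smul a
  obtain ⟨τ, hτ, hτB⟩ := hA'.exists_ne_smul (Ne.symm hC)
  set y := τ • q with hy
  have hyB : y ∉ B := fun h => hτB (hA'.smul_eq hτ hqC hqB h)
  have hgy : y ≠ g • y := fun e => hg1 (hA.free g hg y hyB e.symm)
  rw [← IsSymDesign.join (L := L) _ _ hgy]
  refine Set.ncard_le_ncard_of_injOn (fun X => τ⁻¹ • X) (fun X hX => ?_)
    (fun X _ Y _ e => MulAction.injective τ⁻¹ e) (Set.toFinite _)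
  have hgX : g • X = X := hA.smul_eq hg hyB hX.1 hX.2
  have hq : q ∈ τ⁻¹ • X := by
    rw [← IsDesignAction.smul_mem_smul τ, smul_inv_smul]
    exact hX.1
  have hσ : τ⁻¹ * (g * τ * g⁻¹) ∈ N.map (MulAut.conj a).toMonoidHom :=
    mul_mem (inv_mem hτ) (hA'.conj g hgC τ hτ)
  have h2 : (τ⁻¹ * (g * τ * g⁻¹)) • q ∈ τ⁻¹ • X := by
    rw [mul_smul, IsDesignAction.smul_mem_smul, mul_smul, mul_smul, inv_smul_eq_iff.2 (hA.le_axis hg q hqB).symm, ← hy]
    exact hX.2
  have h3 := hA'.smul_eq hσ hqC hq h2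
  refine ⟨?_, hq⟩
  have h4 : X = (g * τ * g⁻¹) • τ⁻¹ • X := by
    conv_lhs => rw [← smul_inv_smul τ X, ← h3, smul_smul τ, mul_inv_cancel_left]
  calc g • τ⁻¹ • X = (g * τ * g⁻¹)⁻¹ • g • X := by rw [smul_smul, smul_smul]; congr 1; group
    _ = (g * τ * g⁻¹)⁻¹ • X := by rw [hgX]
    _ = τ⁻¹ • X := inv_smul_eq_iff.2 h4

/-- Every axial automorphism has a centre on its axis, in every fixed block. -/
theorem IsAxial.exists_centre (hA : IsAxial G P B N) {g : G} (hg : g ∈ N) (hg1 : g ≠ 1) :
    ∃ p : P, p ∈ B ∧ g ∈ centreGroup G L p ∧ ∀ C : L, g • C = C → p ∈ C := by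
  classical
  cases nonempty_fintype P
  cases nonempty_fintype L
  have hk := hD.lt
  have hl := hD.pos
  have hB : g • B = B := smul_block_of_fix (hA.le_axis hg)
  set Φ := Finset.univ.filter fun X : L => g • X = X with hΦ
  have hΦk : Φ.card = k := by
    rw [← hA.ncard_fixed hg hg1, Set.ncard_eq_toFinset_card']
    congr 1
    ext X
    simp [hΦ]
  let ν : P → ℕ := fun x => {X : L | g • X = X ∧ x ∈ X}.ncard
  -- the total over a fixed block
  have hblock : ∀ C ∈ Φ, ∑ x ∈ Finset.univ.filter (fun x : P => x ∈ C), ν x = k + (k - 1) * l := by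
    intro C hC
    calc ∑ x ∈ Finset.univ.filter (fun x : P => x ∈ C), ν x
        = ∑ x ∈ Finset.univ.filter (fun x : P => x ∈ C), ∑ X ∈ Φ, (if x ∈ X then 1 else 0) := by
          refine Finset.sum_congr rfl fun x _ => ?_
          simp only [ν, hΦ, Finset.sum_boole, Finset.filter_filter, Set.ncard_eq_toFinset_card',
            Set.toFinset_setOf, Nat.cast_id]
      _ = ∑ X ∈ Φ, ∑ x ∈ Finset.univ.filter (fun x : P => x ∈ C), (if x ∈ X then 1 else 0) := Finset.sum_comm
      _ = ∑ X ∈ Φ, {x : P | x ∈ C ∧ x ∈ X}.ncard := by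
          refine Finset.sum_congr rfl fun X _ => ?_
          simp [Finset.filter_filter, Set.ncard_eq_toFinset_card']
      _ = k + (k - 1) * l := by
          rw [← Finset.add_sum_erase _ _ hC, Finset.sum_congr rfl (g := fun _ => l) (fun X hX =>
              IsSymDesign.meet C X (Finset.ne_of_mem_erase hX).symm), Finset.sum_const,
            Finset.card_erase_of_mem hC, hΦk, smul_eq_mul]
          simp [IsSymDesign.on]
  -- the exact values off a fixed block
  have hexact : ∀ C ∈ Φ, C ≠ B → ∀ q : P, q ∈ B → q ∉ C → ν q = l := by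
    intro C hC hCB
    have e1 := hblock B (by simp [hΦ, hB])
    have e2 := hblock C hC
    rw [← Finset.sum_filter_add_sum_filter_not _ (fun x : P => x ∈ C)] at e1
    rw [← Finset.sum_filter_add_sum_filter_not _ (fun x : P => x ∈ B)] at e2
    simp only [Finset.filter_filter] at e1 e2
    rw [show (Finset.univ.filter fun x : P => x ∈ C ∧ x ∈ B) = Finset.univ.filter fun x : P => x ∈ B ∧ x ∈ C from
      Finset.filter_congr fun x _ => and_comm, ← e1] at e2
    have e3 := Nat.add_left_cancel e2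
    have hoff : ∀ x ∈ Finset.univ.filter (fun x : P => x ∈ C ∧ x ∉ B), ν x = l := fun x hx => by
      rw [Finset.mem_filter] at hx
      show {X : L | g • X = X ∧ x ∈ X}.ncard = l
      rw [hA.ncard_fixed_through hg hg1 hx.2.2, IsSymDesign.join]
      exact fun e => hg1 (hA.free g hg x hx.2.2 e.symm)
    have hge : ∀ q ∈ Finset.univ.filter (fun x : P => x ∈ B ∧ x ∉ C), l ≤ ν q := fun q hq => by
      rw [Finset.mem_filter] at hq
      exact hA.le_ncard_fixed hg hg1 hCB (by simpa [hΦ] using hC) hq.2.1 hq.2.2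
    rw [Finset.sum_congr rfl (g := fun _ => l) hoff, Finset.sum_const] at e3
    have hcard : ∀ {D E : L}, D ≠ E → (Finset.univ.filter fun x : P => x ∈ D ∧ x ∉ E).card = k - l := fun {D E} h => by
      rw [← ncard_on_diff h, Set.ncard_eq_toFinset_card', Set.toFinset_setOf]
    rw [hcard hCB, ← hcard hCB.symm, ← Finset.sum_const] at e3
    intro q hqB hqC
    exact ((Finset.sum_eq_sum_iff_of_le hge).1 e3 q (by simp [hqB, hqC])).symm
  -- some point on the axis has more
  obtain ⟨p, hpB, hp⟩ : ∃ p : P, p ∈ B ∧ l < ν p := by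
    by_contra h
    push Not at h
    have e1 := hblock B (by simp [hΦ, hB])
    have := Finset.sum_le_card_nsmul _ ν l (fun x (hx : x ∈ Finset.univ.filter (fun x : P => x ∈ B)) =>
      h x (Finset.mem_filter.1 hx).2)
    rw [e1, smul_eq_mul, show (Finset.univ.filter fun x : P => x ∈ B).card = k by
      rw [← IsSymDesign.on (P := P) B, Set.ncard_eq_toFinset_card', Set.toFinset_setOf]] at this
    obtain ⟨k', rfl⟩ : ∃ k', k = k' + 1 := ⟨k - 1, by omega⟩
    rw [Nat.add_sub_cancel, add_mul, one_mul] at this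
    omega
  have hall : ∀ C : L, g • C = C → p ∈ C := by
    intro C hC
    by_contra hpC
    have := hexact C (by simp [hΦ, hC]) (fun e => hpC (e ▸ hpB)) p hpB hpC
    omega
  refine ⟨p, hpB, ?_, hall⟩
  have : fixedBy L g = {X : L | p ∈ X} :=
    Set.eq_of_subset_of_ncard_le hall (by rw [hA.ncard_fixed hg hg1, IsSymDesign.through]) (Set.toFinite _)
  exact fun C hC => this.symm.subset hC

end Axial

end CfsgLib.DesignAxial
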