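import Cfsg.Agent.Lib.DesignAxial.Scalars

/-!
# Coordinates

A design with an axial group is the design of points and hyperplanes of a projective space.
-/

set_option autoImplicit false
set_option linter.unusedSectionVars false
set_option backward.isDefEq.respectTransparency false

namespace CfsgLib.DesignAxial

open MulAction
open scoped LinearAlgebra.Projectivization Matrix

theorem dot_rep {F ι : Type*} [Field F] [Fintype ι] {a b : ι → F} (ha : a ≠ 0) (hb : b ≠ 0) :
    (Projectivization.mk F a ha).rep ⬝ᵥ (Projectivization.mk F b hb).rep = 0 ↔ a ⬝ᵥ b = 0 := by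
  obtain ⟨c, hc⟩ := Projectivization.exists_smul_eq_mk_rep F a ha
  obtain ⟨d, hd⟩ := Projectivization.exists_smul_eq_mk_rep F b hb
  rw [← hc, ← hd]
  simp [Units.smul_def, smul_dotProduct, dotProduct_smul]

theorem cons_dot {F : Type*} [Field F] {m : ℕ} (a b : F) (u v : Fin m → F) :
    (Fin.cons a u : Fin (m + 1) → F) ⬝ᵥ Fin.cons b v = a * b + u ⬝ᵥ v := by
  simp [dotProduct, Fin.sum_univ_succ]

variable {G P L : Type*} [Group G] [MulAction G P] [MulAction G L] [Membership P L] [IsDesignAction G P L]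
  {k l : ℕ} [Finite P] [Finite L] [Finite G] [hD : IsSymDesign P L k l] {B : L} {N : Subgroup G}
  [IsMulCommutative N]

include hD

theorem IsAxial.smul_not_mem (hA : IsAxial G P B N) {g : G} (hg : g ∈ N) {x : P} (hx : x ∉ B) : g • x ∉ B :=
  fun h => hx ((smul_mem_iff_of_fix (smul_block_of_fix (hA.le_axis hg)) x).1 h)

/-- The axial group is regular off its axis. -/
theorem IsAxial.exists_unique_translation (hA : IsAxial G P B N) {y₀ : P} (hy₀ : y₀ ∉ B) :
    (∀ τ τ' : N, (τ : G) • y₀ = (τ' : G) • y₀ → τ = τ') ∧ ∀ x, x ∉ B → ∃ τ : N, (τ : G) • y₀ = x := by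
  obtain ⟨t, -, -, hN, -, -, -⟩ := hA.params
  let f : N → {x : P | x ∉ B} := fun τ => ⟨(τ : G) • y₀, hA.smul_not_mem τ.2 hy₀⟩
  have hinj : ∀ τ τ' : N, (τ : G) • y₀ = (τ' : G) • y₀ → τ = τ' := fun τ τ' e => by
    have h := hA.free _ (mul_mem (inv_mem τ'.2) τ.2) y₀ hy₀ (by rw [mul_smul, e, inv_smul_smul])
    exact Subtype.ext (inv_mul_eq_one.1 h).symm
  have hbij : Function.Bijective f := (Nat.bijective_iff_injective_and_card _).2
    ⟨fun τ τ' e => hinj τ τ' (congrArg Subtype.val e), by rw [hN, Nat.card_coe_set_eq, ncard_off]⟩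
  exact ⟨hinj, fun x hx => (hbij.2 ⟨x, hx⟩).imp fun τ e => congrArg Subtype.val e⟩

/-- The elements fixing a block other than the axis form a hyperplane. -/
theorem IsAxial.exists_functional (hA : IsAxial G P B N) {F : Type} [Field F] [Fintype F]
    [Module F (Additive N)] {m : ℕ} (e : Additive N ≃ₗ[F] (Fin m → F))
    (hcard : ∀ p ∈ B, Nat.card (part L N p) = Fintype.card F)
    (hpres : ∀ p ∈ B, ∀ (c : F) (x : Additive N), ((Additive.toMul x : N) : G) ∈ part L N p →
      ((Additive.toMul (c • x) : N) : G) ∈ part L N p) {C : L} (hC : C ≠ B) :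
    ∃ a : Fin m → F, a ≠ 0 ∧ ∀ v : N, a ⬝ᵥ e (Additive.ofMul v) = 0 ↔ (v : G) • C = C := by
  classical
  let A : Submodule F (Additive N) :=
    { carrier := {x | ((Additive.toMul x : N) : G) • C = C}
      add_mem' := fun {x y} hx hy => by
        show (((Additive.toMul x : N) : G) * ((Additive.toMul y : N) : G)) • C = C
        rw [mul_smul, hy, hx]
      zero_mem' := one_smul G C
      smul_mem' := fun c x hx => by
        obtain ⟨z, hz, hxz⟩ := hA.exists_part (Additive.toMul x : N).2
        by_cases hx1 : ((Additive.toMul x : N) : G) = 1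
        · rw [show x = 0 from congrArg Additive.ofMul (Subtype.ext hx1 : (Additive.toMul x : N) = 1), smul_zero]
          exact one_smul G C
        exact (hpres z hz c x hxz).2 C ((hA.smul_eq_iff hxz hx1 C).1 hx) }
  obtain ⟨t, ht, -, -, -, hpart, hfix⟩ := hA.params
  obtain ⟨p, hp, -⟩ := hA.exists_part (one_mem N)
  have htq : Fintype.card F = t := (hcard p hp).symm.trans (hpart p hp)
  have hAcard : Nat.card A = Nat.card ↥(N ⊓ stabilizer G C) := Nat.card_congr
    { toFun := fun x => ⟨((Additive.toMul x.1 : N) : G), (Additive.toMul x.1 : N).2, x.2⟩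
      invFun := fun g => ⟨Additive.ofMul (⟨g.1, g.2.1⟩ : N), g.2.2⟩ }
  have hmul : Nat.card A * t = Nat.card (Additive N) := by rw [hAcard]; exact hfix C hC
  haveI : Finite (Additive N) := inferInstanceAs (Finite N)
  have hlt : A < ⊤ := lt_top_iff_ne_top.2 fun e' => by
    rw [e', Nat.card_congr (Submodule.topEquiv (R := F) (M := Additive N)).toEquiv] at hmul
    have : t = 1 := Nat.eq_of_mul_eq_mul_left Nat.card_pos (hmul.trans (mul_one _).symm)
    omega
  obtain ⟨f, hf0, hle⟩ := Submodule.exists_le_ker_of_lt_top A hlt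
  have hker : Nat.card (LinearMap.ker f) * t = Nat.card (Additive N) := by
    rw [Submodule.card_eq_card_quotient_mul_card (LinearMap.ker f),
      Nat.card_congr (f.quotKerEquivOfSurjective (LinearMap.surjective hf0)).toEquiv, Nat.card_eq_fintype_card (α := F), htq]
  have heq : (A : Set (Additive N)) = LinearMap.ker f :=
    Set.eq_of_subset_of_ncard_le hle (by
      rw [← Nat.card_coe_set_eq, ← Nat.card_coe_set_eq]
      exact (Nat.eq_of_mul_eq_mul_right (by omega) (hker.trans hmul.symm)).le) (Set.toFinite _)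
  let g : (Fin m → F) →ₗ[F] F := f.comp e.symm.toLinearMap
  refine ⟨fun i => g (Pi.single i 1), fun h0 => hf0 ?_, fun v => ?_⟩
  · have hg : g = 0 := LinearMap.pi_ext' fun i => LinearMap.ext_ring (by
      simpa using congrFun h0 i)
    refine LinearMap.ext fun x => ?_
    have h := LinearMap.congr_fun hg (e x)
    simpa [g] using h
  · have hsum : (fun i => g (Pi.single i 1)) ⬝ᵥ e (Additive.ofMul v) = f (Additive.ofMul v) := by
      have h : g (e (Additive.ofMul v)) = f (Additive.ofMul v) := by simp [g]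
      rw [← h, LinearMap.pi_apply_eq_sum_univ g (e (Additive.ofMul v)), dotProduct]
      refine Finset.sum_congr rfl fun i _ => ?_
      rw [smul_eq_mul, mul_comm]
      congr 2
      ext j
      simp [Pi.single_apply, eq_comm]
    rw [hsum, ← LinearMap.mem_ker, ← SetLike.mem_coe, ← heq]
    rfl

/-- The points and hyperplanes of a projective space. -/
theorem IsAxial.exists_coordinates (hA : IsAxial G P B N) :
    ∃ (m : ℕ) (F : Type) (_ : Field F) (_ : Fintype F) (φ : P ≃ ℙ F (Fin (m + 1) → F))
      (ψ : L ≃ ℙ F (Fin (m + 1) → F)),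
      2 ≤ m ∧ (∀ x C, x ∈ C ↔ (ψ C).rep ⬝ᵥ (φ x).rep = 0) ∧
      ∀ p ∈ B, Nat.card (part L N p) = Fintype.card F := by
  classical
  obtain ⟨F, _, _, Λ, hcard, hpres⟩ := hA.exists_scalars
  obtain ⟨t, ht, hkl, hN, hNt, hpart, hfix⟩ := hA.params
  obtain ⟨p, hp, -⟩ := hA.exists_part (one_mem N)
  have htq : Fintype.card F = t := (hcard p hp).symm.trans (hpart p hp)
  letI : Module F (Additive N) := Module.compHom (Additive N) Λ
  haveI : Finite (Additive N) := inferInstanceAs (Finite N)
  haveI : Module.Finite F (Additive N) := Module.Finite.of_finite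
  set m := Module.finrank F (Additive N)
  let e : Additive N ≃ₗ[F] (Fin m → F) := LinearEquiv.ofFinrankEq _ _ (Module.finrank_fin_fun F).symm
  have htm : Nat.card N = t ^ m := by
    rw [show Nat.card N = Nat.card (Additive N) from rfl, Nat.card_congr e.toEquiv, Nat.card_fun,
      Nat.card_eq_fintype_card, htq, Nat.card_eq_fintype_card, Fintype.card_fin]
  have hm : 2 ≤ m := by
    by_contra hc
    have h1 : t ^ m ≤ t := by
      calc t ^ m ≤ t ^ 1 := Nat.pow_le_pow_right (by omega) (by omega)
        _ = t := pow_one t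
    have h3 : 3 ≤ k := by
      have := Nat.mul_le_mul hD.pos ht
      omega
    have h4 : 3 * (t - 1) ≤ k * (t - 1) := Nat.mul_le_mul_right _ h3
    omega
  obtain ⟨y₀, hy₀⟩ := exists_off (P := P) B
  obtain ⟨hinj, hsurj⟩ := hA.exists_unique_translation hy₀
  choose τ hτ using hsurj
  have hu : ∀ x ∈ B, ∃ u : N, u ≠ 1 ∧ (u : G) ∈ part L N x := fun x hx => by
    obtain ⟨a, ha, ha1⟩ := hA.part_ne_bot hx
    exact ⟨⟨a, ha.1⟩, fun h => ha1 (congrArg Subtype.val h), ha⟩
  choose u hu1 hux using hu
  let vec : P → Fin (m + 1) → F := fun x =>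
    if h : x ∈ B then Fin.cons 0 (e (Additive.ofMul (u x h))) else Fin.cons 1 (e (Additive.ofMul (τ x h)))
  have hvec : ∀ x, vec x ≠ 0 := fun x h0 => by
    by_cases h : x ∈ B
    · simp only [vec, dif_pos h] at h0
      refine hu1 x h (Additive.ofMul.injective (e.injective ?_))
      exact (funext fun i => by simpa using congrFun h0 i.succ).trans (map_zero e).symm
    · simp only [vec, dif_neg h] at h0
      simpa using congrFun h0 0
  let φ₀ : P → ℙ F (Fin (m + 1) → F) := fun x => Projectivization.mk F (vec x) (hvec x)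
  have hφinj : Function.Injective φ₀ := by
    intro x y he
    obtain ⟨c, hc⟩ := (Projectivization.mk_eq_mk_iff' F _ _ _ _).1 he
    by_cases hx : x ∈ B <;> by_cases hy : y ∈ B
    · simp only [vec, dif_pos hx, dif_pos hy] at hc
      have h1 : c • e (Additive.ofMul (u y hy)) = e (Additive.ofMul (u x hx)) :=
        funext fun i => by simpa using congrFun hc i.succ
      rw [← map_smul] at h1
      have h2 := congrArg (fun v => ((Additive.toMul v : N) : G)) (e.injective h1)
      simp only [toMul_ofMul] at h2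
      refine hA.part_eq (fun h => hu1 x hx (Subtype.ext h)) (hux x hx) ?_
      rw [← h2]
      exact hpres y hy c (u y hy) (hux y hy)
    · simp only [vec, dif_pos hx, dif_neg hy] at hc
      have h0 : c = 0 := by simpa using congrFun hc 0
      exact absurd (Additive.ofMul.injective (e.injective ((funext fun i => by
        simpa [h0] using (congrFun hc i.succ).symm).trans (map_zero e).symm))) (hu1 x hx)
    · simp only [vec, dif_neg hx, dif_pos hy] at hc
      simpa using congrFun hc 0
    · simp only [vec, dif_neg hx, dif_neg hy] at hc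
      have h0 : c = 1 := by simpa using congrFun hc 0
      have h1 : τ y hy = τ x hx := Additive.ofMul.injective (e.injective (funext fun i => by
        simpa [h0] using congrFun hc i.succ))
      rw [← hτ x hx, ← hτ y hy, h1]
  have hPcard : Nat.card P = Nat.card (ℙ F (Fin (m + 1) → F)) := by
    have hc := Projectivization.card' F (Fin (m + 1) → F)
    rw [Nat.card_fun, Nat.card_eq_fintype_card, htq, Nat.card_eq_fintype_card, Fintype.card_fin] at hc
    refine Nat.eq_of_mul_eq_mul_right (show 0 < t - 1 by omega) ?_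
    have hb := hD.big
    obtain ⟨s, hs⟩ : ∃ s, t = s + 1 := ⟨t - 1, by omega⟩
    have hv : Nat.card P = t ^ m + k := by omega
    rw [hv, add_mul]
    have h1 : t ^ m = k * (t - 1) + 1 := htm.symm.trans hNt
    have h2 : t ^ (m + 1) = t ^ m * (t - 1) + t ^ m := by
      rw [pow_succ]
      conv_lhs => rw [show t = (t - 1) + 1 by omega]
      rw [mul_add, mul_one, show t - 1 + 1 = t by omega]
    omega
  have hφ : Function.Bijective φ₀ := (Nat.bijective_iff_injective_and_card _).2 ⟨hφinj, hPcard⟩
  have hmemC : ∀ C : L, ∃ y : P, C = B ∨ (y ∈ C ∧ y ∉ B) := fun C => by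
    by_cases hC : C = B
    · exact ⟨y₀, Or.inl hC⟩
    obtain ⟨y, hy⟩ : ∃ y : P, y ∈ C ∧ y ∉ B := Set.nonempty_of_ncard_ne_zero
      (show {x : P | x ∈ C ∧ x ∉ B}.ncard ≠ 0 by
        rw [ncard_on_diff hC]
        have := hD.lt
        omega)
    exact ⟨y, Or.inr hy⟩
  have hwex : ∀ C : L, ∃ w : Fin (m + 1) → F, w ≠ 0 ∧ ∀ x : P, x ∈ C ↔ w ⬝ᵥ vec x = 0 := by
    intro C
    obtain ⟨y, hyC⟩ := hmemC C
    rcases hyC with rfl | ⟨hyC, hyB⟩
    · refine ⟨Fin.cons 1 0, fun h => by simpa using congrFun h 0, fun x => ?_⟩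
      by_cases hx : x ∈ C
      · simp [vec, dif_pos hx, cons_dot, hx]
      · simp [vec, dif_neg hx, cons_dot, hx]
    have hC : C ≠ B := fun h => hyB (h ▸ hyC)
    obtain ⟨a, ha, hav⟩ := hA.exists_functional e hcard
      (fun z hz c x hx => hpres z hz c (Additive.toMul x : N) hx) hC
    refine ⟨Fin.cons (-(a ⬝ᵥ e (Additive.ofMul (τ y hyB)))) a, fun h => ha (funext fun i => by
      simpa using congrFun h i.succ), fun x => ?_⟩
    by_cases hx : x ∈ B
    · simp only [vec, dif_pos hx, cons_dot, mul_zero, zero_add]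
      rw [hav]
      exact (hA.smul_eq_iff (hux x hx) (fun h => hu1 x hx (Subtype.ext h)) C).symm
    · simp only [vec, dif_neg hx, cons_dot, mul_one]
      rw [neg_add_eq_zero, eq_comm, ← sub_eq_zero, ← dotProduct_sub, ← map_sub, ← ofMul_div, hav]
      have hxy : ((τ x hx / τ y hyB : N) : G) • y = x := by
        rw [Subgroup.coe_div, div_eq_mul_inv, mul_smul, inv_smul_eq_iff.2 (hτ y hyB).symm]
        exact hτ x hx
      constructor
      · intro hxC
        exact hA.smul_eq (τ x hx / τ y hyB : N).2 hyB hyC (hxy.symm ▸ hxC)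
      · intro hfC
        rw [← hxy]
        exact (smul_mem_iff_of_fix hfC y).2 hyC
  choose w hw0 hw using hwex
  let ψ₀ : L → ℙ F (Fin (m + 1) → F) := fun C => Projectivization.mk F (w C) (hw0 C)
  have hinc : ∀ x C, x ∈ C ↔ (ψ₀ C).rep ⬝ᵥ (φ₀ x).rep = 0 := fun x C => (hw C x).trans (dot_rep _ _).symm
  have hψ : Function.Bijective ψ₀ := (Nat.bijective_iff_injective_and_card _).2 ⟨fun C D he => by
    refine eq_of_subset (P := P) (S := {x : P | x ∈ C}) ?_ (fun x hx => hx) (fun x hx => ?_)
    · rw [IsSymDesign.on]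
      exact hD.lt
    · rw [hinc, ← he, ← hinc]
      exact hx, by rw [← hPcard, hD.card_eq]⟩
  exact ⟨m, F, inferInstance, inferInstance, Equiv.ofBijective φ₀ hφ, Equiv.ofBijective ψ₀ hψ, hm,
    fun x C => hinc x C, hcard⟩

end CfsgLib.DesignAxial
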