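import Cfsg.Agent.Lib.DesignAxial.Slopes
import Cfsg.Agent.Lib.OstromWagner.Hua
import Cfsg.Agent.Lib.OstromWagner.JordanField

/-!
# The ring of ratios of slopes

The ratios of the slopes from `p` form a field, the same for every direction.
-/

set_option autoImplicit false
set_option linter.unusedSectionVars false
set_option backward.isDefEq.respectTransparency false

namespace CfsgLib.DesignAxial

open MulAction
open CfsgLib.OstromWagner (Jordan.mul_mem Jordan.mul_mul_mem Jordan.comm)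

variable {G P L : Type*} [Group G] [MulAction G P] [MulAction G L] [Membership P L] [IsDesignAction G P L]
  {k l : ℕ} [Finite P] [Finite L] [Finite G] [hD : IsSymDesign P L k l] {B : L} {N : Subgroup G}
  [IsMulCommutative N]

/-- The endomorphisms of a part. -/
abbrev PartEnd (L : Type*) [MulAction G L] [Membership P L] (N : Subgroup G) [IsMulCommutative N] (p : P) :=
  AddMonoid.End (Additive (part L N p))

/-- A field of endomorphisms of a part containing the ratios of the slopes towards `q`. -/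
structure RatioRing (B : L) (p : P) (M : Subring (PartEnd L N p)) (q : P) : Prop where
  ratio : ∀ f ∈ Slope B N p q, f ≠ 0 → ∀ g : PartHom L N q p, g.comp f = AddMonoidHom.id _ →
    ∀ f' ∈ Slope B N p q, (g.comp f' : PartEnd L N p) ∈ M

/-- A field inside the endomorphisms. -/
structure IsScalarField {p : P} (M : Subring (PartEnd L N p)) : Prop where
  comm : ∀ x ∈ M, ∀ y ∈ M, x * y = y * x
  inv : ∀ x ∈ M, x ≠ 0 → ∃ y ∈ M, y * x = 1 ∧ x * y = 1

include hD

theorem IsAxial.card_slope (hA : IsAxial G P B N) {p q : P} (hp : p ∈ B) (hq : q ∈ B) (hpq : p ≠ q) {t : ℕ}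
    (ht : Nat.card (part L N q) = t) : Nat.card (Slope B N p q) = t := by
  obtain ⟨u, hu, hu1⟩ := hA.part_ne_bot hp
  have hu' : (⟨u, hu⟩ : part L N p) ≠ 1 := fun e => hu1 (congrArg Subtype.val e)
  rw [← ht]
  refine Nat.card_congr (Equiv.ofBijective
    (fun f : Slope B N p q => (⟨val f.1 ⟨u, hu⟩, val_mem _ _⟩ : part L N q)) ⟨fun f g e => ?_, fun v => ?_⟩)
  · exact Subtype.ext (hA.slope_unique hpq f.2 g.2 hu' (congrArg Subtype.val e))
  · obtain ⟨f, hf, hfv⟩ := hA.exists_slope' hp hq hpq hu' v.2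
    exact ⟨⟨f, hf⟩, Subtype.ext hfv⟩

theorem IsAxial.slope_neg (hA : IsAxial G P B N) {p q : P} (hp : p ∈ B) (hq : q ∈ B) (hpq : p ≠ q)
    {f : PartHom L N p q} (hf : f ∈ Slope B N p q) : -f ∈ Slope B N p q := by
  let S : AddSubmonoid (PartHom L N p q) :=
    { carrier := Slope B N p q
      add_mem' := fun {a b} ha hb => hA.slope_add hp hq hpq ha hb
      zero_mem' := hA.zero_mem_slope p q }
  haveI : Finite (PartHom L N p q) :=
    haveI : Finite (Additive (part L N p)) := inferInstanceAs (Finite (part L N p))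
    haveI : Finite (Additive (part L N q)) := inferInstanceAs (Finite (part L N q))
    Finite.of_injective (fun g => (g : Additive (part L N p) → Additive (part L N q))) DFunLike.coe_injective
  have h : -f = (addOrderOf f - 1) • f := by
    rw [neg_eq_iff_add_eq_zero, ← succ_nsmul', Nat.sub_add_cancel (addOrderOf_pos f), addOrderOf_nsmul_eq_zero]
  exact h ▸ S.nsmul_mem hf _

/-- The ratios towards one point form a field. -/
theorem IsAxial.exists_ratioRing (hA : IsAxial G P B N) {p q : P} (hp : p ∈ B) (hq : q ∈ B) (hpq : p ≠ q) :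
    ∃ M : Subring (PartEnd L N p),
      IsScalarField M ∧ RatioRing B p M q ∧ Nat.card M = Nat.card (part L N p) := by
  classical
  haveI : Finite (Additive (part L N p)) := inferInstanceAs (Finite (part L N p))
  haveI : Finite (PartEnd L N p) := Finite.of_injective
    (fun g => (g : Additive (part L N p) → Additive (part L N p))) DFunLike.coe_injective
  obtain ⟨t, -, -, -, -, hpart, -⟩ := hA.params
  obtain ⟨u, hu, hu1⟩ := hA.part_ne_bot hp
  obtain ⟨v, hv, hv1⟩ := hA.part_ne_bot hq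
  obtain ⟨μ, hμ, hμv⟩ := hA.exists_slope' hp hq hpq (u := ⟨u, hu⟩) (fun e => hu1 (congrArg Subtype.val e)) hv
  have hμ0 : μ ≠ 0 := fun e => hv1 (by rw [← hμv, e, val_zero])
  obtain ⟨ν, hν, hνμ, hμν⟩ := hA.slope_inv hp hq hpq hμ hμ0
  let Mg : AddSubgroup (PartEnd L N p) :=
    { carrier := {r | μ.comp r ∈ Slope B N p q}
      add_mem' := fun {a b} ha hb => by
        show μ.comp (a + b) ∈ Slope B N p q
        rw [AddMonoidHom.comp_add]
        exact hA.slope_add hp hq hpq ha hb
      zero_mem' := by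
        show μ.comp 0 ∈ Slope B N p q
        rw [AddMonoidHom.comp_zero]
        exact hA.zero_mem_slope p q
      neg_mem' := fun {a} ha => by
        show μ.comp (-a) ∈ Slope B N p q
        rw [show μ.comp (-a) = -(μ.comp a) from AddMonoidHom.ext fun x => map_neg μ (a x)]
        exact hA.slope_neg hp hq hpq ha }
  let Ig : AddSubgroup (PartEnd L N p) :=
    { carrier := {r | AddMonoidHom.comp r ν ∈ Slope B N q p}
      add_mem' := fun {a b} ha hb => by
        show AddMonoidHom.comp (a + b) ν ∈ Slope B N q p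
        rw [AddMonoidHom.add_comp]
        exact hA.slope_add hq hp hpq.symm ha hb
      zero_mem' := by
        show AddMonoidHom.comp 0 ν ∈ Slope B N q p
        rw [AddMonoidHom.zero_comp]
        exact hA.zero_mem_slope q p
      neg_mem' := fun {a} ha => by
        show AddMonoidHom.comp (-a) ν ∈ Slope B N q p
        rw [show AddMonoidHom.comp (-a) ν = -(AddMonoidHom.comp a ν) from rfl]
        exact hA.slope_neg hq hp hpq.symm ha }
  have hμinj : ∀ a b : PartEnd L N p, μ.comp a = μ.comp b → a = b := fun a b e => by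
    have h := congrArg ν.comp e
    rwa [← AddMonoidHom.comp_assoc, ← AddMonoidHom.comp_assoc, hνμ, AddMonoidHom.id_comp, AddMonoidHom.id_comp] at h
  have h1 : (1 : PartEnd L N p) ∈ Mg := by
    show μ.comp (AddMonoidHom.id _) ∈ Slope B N p q
    rwa [AddMonoidHom.comp_id]
  have hI1 : (1 : PartEnd L N p) ∈ Ig := by
    show (AddMonoidHom.id _).comp ν ∈ Slope B N q p
    rwa [AddMonoidHom.id_comp]
  have hMI : ∀ r ∈ Mg, r ≠ 0 → ∃ r' ∈ Ig, r' * r = 1 ∧ r * r' = 1 := by
    intro r hr hr0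
    obtain ⟨g, hg, hgf, hfg⟩ := hA.slope_inv hp hq hpq hr
      (fun e => hr0 (hμinj _ _ (e.trans (AddMonoidHom.comp_zero μ).symm)))
    refine ⟨g.comp μ, ?_, ?_, ?_⟩
    · show (g.comp μ).comp ν ∈ Slope B N q p
      rwa [AddMonoidHom.comp_assoc, hμν, AddMonoidHom.comp_id]
    · show (g.comp μ).comp r = AddMonoidHom.id _
      rwa [AddMonoidHom.comp_assoc]
    · refine hμinj _ _ ?_
      show μ.comp (AddMonoidHom.comp r (g.comp μ)) = μ.comp (AddMonoidHom.id _)
      exact (congrArg (fun e => e.comp μ) hfg).trans ((AddMonoidHom.id_comp μ).trans (AddMonoidHom.comp_id μ).symm)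
  have hIM : ∀ r ∈ Ig, r ≠ 0 → ∃ r' ∈ Mg, r * r' = 1 ∧ r' * r = 1 := by
    intro r hr hr0
    have hne : AddMonoidHom.comp r ν ≠ 0 := fun e => hr0 (by
      have h := congrArg (fun f => AddMonoidHom.comp f μ) e
      rwa [AddMonoidHom.comp_assoc, hνμ, AddMonoidHom.comp_id, AddMonoidHom.zero_comp] at h)
    obtain ⟨g, hg, hgf, hfg⟩ := hA.slope_inv hq hp hpq.symm hr hne
    refine ⟨ν.comp g, ?_, ?_, ?_⟩
    · show μ.comp (ν.comp g) ∈ Slope B N p q
      rwa [← AddMonoidHom.comp_assoc, hμν, AddMonoidHom.id_comp]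
    · show AddMonoidHom.comp r (ν.comp g) = AddMonoidHom.id _
      rwa [← AddMonoidHom.comp_assoc]
    · show (ν.comp g).comp r = AddMonoidHom.id _
      exact Eq.trans (congrArg (fun e : PartHom L N p p => (ν.comp g).comp (AddMonoidHom.comp r e)) hνμ.symm)
        ((congrArg (fun f => (ν.comp f).comp μ) hgf).trans hνμ)
  obtain ⟨r, hr, hexp⟩ := hA.exists_exponent
  have hchar : (r : PartEnd L N p) = 0 := by
    refine AddMonoidHom.ext fun x => ?_
    show (r : PartEnd L N p) x = 0
    rw [AddMonoid.End.natCast_apply]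
    exact congrArg Additive.ofMul (Subtype.ext (hexp _ (Additive.toMul x).2.1) : (Additive.toMul x) ^ r = 1)
  have hIM' : ∀ y ∈ Ig, y ≠ 0 → ∃ x ∈ Mg, y * x = 1 ∧ x * y = 1 := hIM
  have hjordan : ∀ x ∈ Mg, ∀ y ∈ Mg, x * y * x ∈ Mg := fun x hx y hy =>
    Jordan.mul_mul_mem h1 hI1 hMI hIM' hx hy
  have hunit : ∀ x ∈ Mg, x ≠ 0 → IsUnit x := fun x hx hx0 => by
    obtain ⟨y, -, e1, e2⟩ := hMI x hx hx0
    exact ⟨⟨x, y, e2, e1⟩, rfl⟩
  let M : Subring (PartEnd L N p) :=
    { carrier := Mg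
      one_mem' := h1
      mul_mem' := fun {x y} hx hy => Jordan.mul_mem h1 hjordan hr hchar hunit hx hy
      add_mem' := fun {x y} hx hy => Mg.add_mem hx hy
      zero_mem' := Mg.zero_mem
      neg_mem' := fun {x} hx => Mg.neg_mem hx }
  have hcomm : ∀ x ∈ M, ∀ y ∈ M, x * y = y * x := fun x hx y hy => Jordan.comm h1 hjordan hr hchar hunit hx hy
  have hinv : ∀ x ∈ M, x ≠ 0 → ∃ y ∈ M, y * x = 1 ∧ x * y = 1 := by
    intro x hx hx0
    obtain ⟨w, hw⟩ := hunit x hx hx0
    have hpow : x ^ orderOf w = 1 := by rw [← hw, ← Units.val_pow_eq_pow_val, pow_orderOf_eq_one, Units.val_one]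
    refine ⟨x ^ (orderOf w - 1), pow_mem hx _, ?_, ?_⟩
    · rw [← pow_succ, Nat.sub_add_cancel (orderOf_pos w), hpow]
    · rw [← pow_succ', Nat.sub_add_cancel (orderOf_pos w), hpow]
  refine ⟨M, ⟨hcomm, hinv⟩, ⟨fun f hf hf0 g hgf f' hf' => ?_⟩, ?_⟩
  · have hmem : ∀ f ∈ Slope B N p q, (ν.comp f : PartEnd L N p) ∈ M := fun f hf => by
      show μ.comp (ν.comp f) ∈ Slope B N p q
      rwa [← AddMonoidHom.comp_assoc, hμν, AddMonoidHom.id_comp]
    have hback : ∀ f : PartHom L N p q, μ.comp (ν.comp f) = f := fun f => by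
      rw [← AddMonoidHom.comp_assoc, hμν, AddMonoidHom.id_comp]
    obtain ⟨y, hy, hy1, hy2⟩ := hinv _ (hmem f hf) (fun e => hf0 (by rw [← hback f, e]; exact AddMonoidHom.comp_zero μ))
    have hfy : f.comp y = μ := by
      rw [← hback f, AddMonoidHom.comp_assoc]
      exact (congrArg μ.comp hy2).trans (AddMonoidHom.comp_id μ)
    have hg : g.comp μ = y := by
      rw [← hfy, ← AddMonoidHom.comp_assoc, hgf, AddMonoidHom.id_comp]
    rw [← hback f', ← AddMonoidHom.comp_assoc, hg]
    exact M.mul_mem hy (hmem f' hf')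
  · rw [show Nat.card (part L N p) = t from hpart p hp, ← hA.card_slope hp hq hpq (hpart q hq)]
    refine Nat.card_congr
      { toFun := fun x => ⟨μ.comp x.1, x.2⟩
        invFun := fun f => ⟨ν.comp f.1, by
          show μ.comp (ν.comp f.1) ∈ Slope B N p q
          rw [← AddMonoidHom.comp_assoc, hμν, AddMonoidHom.id_comp]
          exact f.2⟩
        left_inv := fun x => Subtype.ext (by
          show ν.comp (μ.comp x.1) = x.1
          rw [← AddMonoidHom.comp_assoc, hνμ, AddMonoidHom.id_comp])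
        right_inv := fun f => Subtype.ext (by
          show μ.comp (ν.comp f.1) = f.1
          rw [← AddMonoidHom.comp_assoc, hμν, AddMonoidHom.id_comp]) }

/-- The coordinates of a slope into a coplanar direction lie in the ring. -/
theorem IsAxial.slope_coords (hA : IsAxial G P B N) {p z y : P} {M : Subring (PartEnd L N p)}
    (hM : IsScalarField M) (hR : RatioRing B p M z) (hp : p ∈ B) (hz : z ∈ B) (hy : y ∈ B) (hpz : p ≠ z)
    (hpy : p ≠ y) (hline : y ∈ line L p z) {μ : PartHom L N p z} (hμ : μ ∈ Slope B N p z) (hμ0 : μ ≠ 0)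
    {f : PartHom L N p y} (hf : f ∈ Slope B N p y) :
    ∃ α ∈ M, ∃ κ ∈ M, ∀ u : part L N p, val f u = val (α : PartHom L N p p) u * val (μ.comp κ) u := by
  classical
  obtain ⟨ν, hν, hνμ, hμν⟩ := hA.slope_inv hp hz hpz hμ hμ0
  by_cases hyz : y = z
  · subst hyz
    refine ⟨0, M.zero_mem, ν.comp f, hR.ratio μ hμ hμ0 ν hνμ f hf, fun u => ?_⟩
    rw [← AddMonoidHom.comp_assoc, hμν, AddMonoidHom.id_comp]
    exact (one_mul _).symm
  by_cases hf0 : f = 0
  · subst hf0
    refine ⟨0, M.zero_mem, 0, M.zero_mem, fun u => ?_⟩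
    rw [show μ.comp (0 : PartEnd L N p) = (0 : PartHom L N p z) from AddMonoidHom.comp_zero μ]
    exact (one_mul _).symm
  have hsup := hA.part_le_sup hp hz hy hpz (Or.inl hline)
  choose A hAm Bf hBm hdec using fun u : part L N p => hA.mem_sup_parts (hsup (val_mem f u))
  have huniq : ∀ a a' b b' : G, a ∈ part L N p → a' ∈ part L N p → b ∈ part L N z → b' ∈ part L N z →
      a * b = a' * b' → a = a' ∧ b = b' := by
    intro a a' b b' ha ha' hb hb' e
    have h1 : a'⁻¹ * a = b' * b⁻¹ := by rw [eq_mul_inv_iff_mul_eq, mul_assoc, e, inv_mul_cancel_left]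
    have h2 := hA.part_inf hpz (mul_mem (inv_mem ha') ha) (h1 ▸ mul_mem hb' (inv_mem hb))
    exact ⟨(inv_mul_eq_one.1 h2).symm, (mul_inv_eq_one.1 (h1 ▸ h2)).symm⟩
  have hadd : ∀ u w : part L N p, A (u * w) = A u * A w ∧ Bf (u * w) = Bf u * Bf w := by
    intro u w
    refine huniq _ _ _ _ (hAm _) (mul_mem (hAm u) (hAm w)) (hBm _) (mul_mem (hBm u) (hBm w)) ?_
    have h : val f (u * w) = val f u * val f w := by
      show ((Additive.toMul (f (Additive.ofMul u + Additive.ofMul w)) : part L N y) : G) = _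
      rw [map_add]
      rfl
    rw [← hdec, h, hdec u, hdec w, mul_assoc, ← mul_assoc (Bf u), hA.comm (hBm u).1 (hAm w).1, mul_assoc (A w),
      ← mul_assoc]
  let α : PartHom L N p p := MonoidHom.toAdditive
    (MonoidHom.mk' (fun u => (⟨A u, hAm u⟩ : part L N p)) fun u w => Subtype.ext (hadd u w).1)
  let β : PartHom L N p z := MonoidHom.toAdditive
    (MonoidHom.mk' (fun u => (⟨Bf u, hBm u⟩ : part L N z)) fun u w => Subtype.ext (hadd u w).2)
  have hαβ : ∀ u, val f u = val α u * val β u := hdec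
  obtain ⟨u₀, hu₀⟩ : ∃ u : part L N p, val f u ≠ 1 := by
    by_contra h
    push Not at h
    exact hf0 (hom_ext fun u => (h u).trans (val_zero u).symm)
  have hb0 : val β u₀ ≠ 1 := fun e => hu₀ (hA.part_inf hpy (by
    rw [hαβ u₀, e, mul_one]
    exact val_mem α u₀) (val_mem f u₀))
  obtain ⟨s, hs, hsv⟩ := hA.exists_slope' hz hp hpz.symm (u := ⟨val β u₀, val_mem β u₀⟩)
    (fun e => hb0 (congrArg Subtype.val e)) (val_mem α u₀)
  have hsα : α = s.comp β := by
    obtain ⟨a, haB, ha⟩ := id hs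
    have hgraph : ∀ w : part L N z, (w : G) * val s w ∈ part L N (a • z) := fun w =>
      ha w ▸ ⟨hA.conj a haB w w.2.1, conj_mem_centre w.2.2 a⟩
    have h0 := hgraph ⟨val β u₀, val_mem β u₀⟩
    rw [hsv, show val β u₀ * val α u₀ = val α u₀ * val β u₀ from hA.comm (val_mem β u₀).1 (val_mem α u₀).1,
      ← hαβ] at h0
    have hzy : a • z = y := hA.part_eq hu₀ h0 (val_mem f u₀)
    refine hom_ext fun u => ?_
    rw [val_comp]
    have h1 := hgraph ⟨val β u, val_mem β u⟩
    rw [hzy] at h1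
    have h2 := mul_mem (val_mem f u) (inv_mem h1)
    rw [hαβ u, mul_inv_rev, mul_assoc, hA.comm (inv_mem (val_mem s _).1) (inv_mem (val_mem β u).1),
      mul_inv_cancel_left] at h2
    exact mul_inv_eq_one.1 (hA.part_inf hpy (mul_mem (val_mem α u) (inv_mem (val_mem s _))) h2)
  have hkM : (s.comp μ : PartEnd L N p) ∈ M := by
    by_cases hs0 : s = 0
    · rw [hs0, AddMonoidHom.zero_comp]
      exact M.zero_mem
    obtain ⟨fs, hfs, hfss, hsfs⟩ := hA.slope_inv hz hp hpz.symm hs hs0
    have hfs0 : fs ≠ 0 := fun e => by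
      rw [e, AddMonoidHom.comp_zero] at hsfs
      obtain ⟨w, hw, hw1⟩ := hA.part_ne_bot hp
      exact hw1 (congrArg (fun h : PartHom L N p p => val h ⟨w, hw⟩) hsfs).symm
    exact hR.ratio fs hfs hfs0 s hsfs μ hμ
  set kk : PartEnd L N p := s.comp μ
  set κ : PartEnd L N p := ν.comp β
  have hβκ : μ.comp κ = β := by rw [← AddMonoidHom.comp_assoc, hμν, AddMonoidHom.id_comp]
  have hακ : (α : PartEnd L N p) = kk * κ := by
    show α = (s.comp μ).comp κ
    rw [AddMonoidHom.comp_assoc, hβκ]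
    exact hsα
  suffices hκ : κ ∈ M from ⟨α, hακ ▸ M.mul_mem hkM hκ, κ, hκ, fun u => by rw [hβκ]; exact hαβ u⟩
  obtain ⟨a, haB, ha⟩ := id hf
  have hgraph : ∀ w : part L N p, (w : G) * val f w ∈ part L N (a • p) := fun w =>
    ha w ▸ ⟨hA.conj a haB w w.2.1, conj_mem_centre w.2.2 a⟩
  let σ : PartHom L N p p := AddMonoidHom.id _ + α
  have hσ : ∀ u, val (σ : PartHom L N p p) u = u * val α u := fun u => rfl
  have hgraph' : ∀ u, val (σ : PartHom L N p p) u * val β u ∈ part L N (a • p) := fun u => by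
    rw [hσ, mul_assoc, ← hαβ]
    exact hgraph u
  by_cases hw0 : val (σ : PartHom L N p p) u₀ = 1
  · have hYz : a • p = z := hA.part_eq hb0 (by simpa [hw0] using hgraph' u₀) (val_mem β u₀)
    have hσ0 : σ = 0 := hom_ext fun u => (hA.part_inf hpz (val_mem _ u) (by
      have h := mul_mem (hgraph' u) (inv_mem (show val β u ∈ part L N (a • p) from hYz.symm ▸ val_mem β u))
      rw [mul_inv_cancel_right] at h
      exact hYz ▸ h)).trans (val_zero u).symm
    have hkκ : kk * κ = -1 := by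
      rw [← hακ]
      exact eq_neg_of_add_eq_zero_right hσ0
    by_cases hk0 : kk = 0
    · rw [hk0, zero_mul, eq_comm, neg_eq_zero] at hkκ
      have hz0 : ∀ x : PartEnd L N p, x = 0 := fun x => by rw [← one_mul x, hkκ, zero_mul]
      rw [hz0 κ]
      exact M.zero_mem
    obtain ⟨k', hk', hk1, -⟩ := hM.inv kk hkM hk0
    have : κ = -k' := by rw [← one_mul κ, ← hk1, mul_assoc, hkκ]; exact mul_neg_one k'
    exact this ▸ M.neg_mem hk'
  · obtain ⟨h, hh, hhv⟩ := hA.exists_slope' hp hz hpz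
      (u := ⟨val (σ : PartHom L N p p) u₀, val_mem _ u₀⟩) (fun e => hw0 (congrArg Subtype.val e)) (val_mem β u₀)
    have hm : (ν.comp h : PartEnd L N p) ∈ M := hR.ratio μ hμ hμ0 ν hνμ h hh
    obtain ⟨b, hbB, hb⟩ := id hh
    have hgh : ∀ w : part L N p, (w : G) * val h w ∈ part L N (b • p) := fun w =>
      hb w ▸ ⟨hA.conj b hbB w w.2.1, conj_mem_centre w.2.2 b⟩
    have hne : val (σ : PartHom L N p p) u₀ * val β u₀ ≠ 1 := fun e =>
      hw0 (hA.part_inf hpz (val_mem _ u₀) (eq_inv_of_mul_eq_one_left e ▸ inv_mem (val_mem β u₀)))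
    have hY : a • p = b • p := hA.part_eq hne (hgraph' u₀) (by
      have := hgh ⟨val (σ : PartHom L N p p) u₀, val_mem _ u₀⟩
      rwa [hhv] at this)
    have hYz : a • p ≠ z := fun e => hw0 (hA.part_inf hpz (val_mem _ u₀) (by
      have h0 := hgraph' u₀
      rw [e] at h0
      simpa using mul_mem h0 (inv_mem (val_mem β u₀))))
    have hhσ : h.comp σ = β := by
      refine hom_ext fun u => inv_mul_eq_one.1 (hA.part_inf hYz ?_
        (mul_mem (inv_mem (val_mem _ u)) (val_mem β u)))
      have h2 := hgh ⟨val (σ : PartHom L N p p) u, val_mem _ u⟩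
      rw [← hY] at h2
      rw [val_comp]
      simpa [mul_assoc] using mul_mem (inv_mem h2) (hgraph' u)
    set m : PartEnd L N p := ν.comp h
    have he : m * (1 + kk * κ) = κ := by
      rw [← hακ]
      show (ν.comp h).comp σ = ν.comp β
      rw [AddMonoidHom.comp_assoc, hhσ]
    have he2 : (1 - m * kk) * κ = m := by
      rw [sub_mul, one_mul, mul_assoc, sub_eq_iff_eq_add]
      conv_lhs => rw [← he, mul_add, mul_one]
    by_cases h0 : 1 - m * kk = 0
    · rw [h0, zero_mul] at he2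
      rw [← he2, zero_mul, sub_zero] at h0
      rw [← one_mul κ, h0, zero_mul]
      exact M.zero_mem
    obtain ⟨w, hw, hw1, -⟩ := hM.inv _ (M.sub_mem M.one_mem (M.mul_mem hm hkM)) h0
    have : κ = w * m := by rw [← he2, ← mul_assoc, hw1, one_mul]
    exact this ▸ M.mul_mem hw hm

/-- The ratio ring does not depend on the direction. -/
theorem IsAxial.ratioRing_all (hA : IsAxial G P B N) {p q z : P} {M : Subring (PartEnd L N p)}
    (hM : IsScalarField M) (hR : RatioRing B p M q) (hp : p ∈ B) (hq : q ∈ B) (hz : z ∈ B) (hpq : p ≠ q)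
    (hpz : p ≠ z) : RatioRing B p M z := by
  refine ⟨fun f hf hf0 g hgf f' hf' => ?_⟩
  obtain ⟨u, hu, hu1⟩ := hA.part_ne_bot hp
  obtain ⟨v, hv, hv1⟩ := hA.part_ne_bot hq
  by_cases hline : z ∈ line L p q
  · obtain ⟨μ, hμ, hμv⟩ := hA.exists_slope' hp hq hpq (u := ⟨u, hu⟩) (fun e => hu1 (congrArg Subtype.val e)) hv
    have hμ0 : μ ≠ 0 := fun e => hv1 (by rw [← hμv, e, val_zero])
    obtain ⟨α, -, κ, hκ, he⟩ := hA.slope_coords hM hR hp hq hz hpq hpz hline hμ hμ0 hf
    obtain ⟨α', -, κ', hκ', he'⟩ := hA.slope_coords hM hR hp hq hz hpq hpz hline hμ hμ0 hf'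
    have hκ0 : κ ≠ 0 := fun e => hf0 (hom_ext fun w => (hA.part_inf hpz.symm (val_mem f w) (by
      rw [he w, e, show μ.comp (0 : PartEnd L N p) = (0 : PartHom L N p q) from AddMonoidHom.comp_zero μ, val_zero, mul_one]
      exact val_mem _ w)).trans (val_zero w).symm)
    obtain ⟨y, hy, hy1, hy2⟩ := hM.inv κ hκ hκ0
    have hff : f' = f.comp (y * κ' : PartEnd L N p) := by
      refine hom_ext fun w => ?_
      have h := he ⟨val ((y * κ' : PartEnd L N p) : PartHom L N p p) w, val_mem _ w⟩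
      have hk : val (μ.comp κ) ⟨val ((y * κ' : PartEnd L N p) : PartHom L N p p) w, val_mem _ w⟩ =
          val (μ.comp κ') w :=
        congrArg (fun e : PartEnd L N p => val (μ.comp e) w)
          (show κ * (y * κ') = κ' by rw [← mul_assoc, hy2, one_mul])
      rw [hk] at h
      refine mul_inv_eq_one.1 (hA.part_inf hpz.symm (mul_mem (val_mem f' w) (inv_mem (val_mem _ w))) ?_)
      rw [he' w, val_comp f, h, mul_inv_rev, ← mul_assoc, mul_inv_cancel_right]
      exact mul_mem (val_mem _ w) (inv_mem (val_mem _ _))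
    rw [hff, ← AddMonoidHom.comp_assoc, hgf, AddMonoidHom.id_comp]
    exact M.mul_mem hy hκ'
  · have hqz : q ≠ z := fun e => hline (e ▸ fun C _ h2 => h2)
    obtain ⟨w, hw, hw1⟩ := hA.part_ne_bot hz
    obtain ⟨σ, hσ, hσv⟩ := hA.exists_slope' hz hq hqz.symm (u := ⟨w, hw⟩) (fun e => hw1 (congrArg Subtype.val e)) hv
    have hσ0 : σ ≠ 0 := fun e => hv1 (by rw [← hσv, e, val_zero])
    obtain ⟨ρ, -, hρσ, -⟩ := hA.slope_inv hz hq hqz.symm hσ hσ0
    have hind : p ∉ line L q z := hA.not_mem_line hq hp hz hpq.symm hqz (fun h => hline (mem_line_comm.1 h))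
    have hc := hA.slope_comp hp hz hq hpz hpq hqz.symm hind hf hσ
    have hc' := hA.slope_comp hp hz hq hpz hpq hqz.symm hind hf' hσ
    have hc0 : σ.comp f ≠ 0 := fun e => hf0 (by
      rw [← AddMonoidHom.id_comp f, ← hρσ, AddMonoidHom.comp_assoc, e, AddMonoidHom.comp_zero])
    have h := hR.ratio _ hc hc0 (g.comp ρ)
      ((congrArg (fun e : PartHom L N z z => g.comp (e.comp f)) hρσ).trans hgf) _ hc'
    have e : @Eq (PartEnd L N p) ((g.comp ρ).comp (σ.comp f')) (g.comp f') :=
      congrArg (fun e : PartHom L N z z => g.comp (e.comp f')) hρσ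
    exact e ▸ h

end CfsgLib.DesignAxial
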