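import Cfsg.Agent.Lib.DesignAxial.Coordinates
import Cfsg.Agent.Lib.Classical.SLBasic

/-!
# Recognition of the projective special linear group

In coordinates an axial group consists of all transvections with its axis, so the normal subgroup
it generates is the projective special linear group.
-/

set_option autoImplicit false
set_option linter.unusedSectionVars false
set_option backward.isDefEq.respectTransparency false

namespace CfsgLib.DesignAxial

open MulAction
open scoped LinearAlgebra.Projectivization Matrix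

/-- The automorphisms of an incidence structure. -/
def autGroup (P L : Type*) [Membership P L] : Subgroup (Equiv.Perm P × Equiv.Perm L) where
  carrier := {a | ∀ (x : P) (C : L), a.1 x ∈ a.2 C ↔ x ∈ C}
  one_mem' := fun _ _ => Iff.rfl
  mul_mem' := fun {a b} ha hb x C => (ha (b.1 x) (b.2 C)).trans (hb x C)
  inv_mem' := fun {a} ha x C => by simpa using (ha (a⁻¹.1 x) (a⁻¹.2 C)).symm

instance autPointAction (P L : Type*) [Membership P L] : MulAction (autGroup P L) P :=
  MulAction.compHom P ((MonoidHom.fst _ _).comp (autGroup P L).subtype)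

instance autBlockAction (P L : Type*) [Membership P L] : MulAction (autGroup P L) L :=
  MulAction.compHom L ((MonoidHom.snd _ _).comp (autGroup P L).subtype)

instance autDesignAction (P L : Type*) [Membership P L] [Finite P] [Finite L] {k l : ℕ}
    [hD : IsSymDesign P L k l] : IsDesignAction (autGroup P L) P L where
  smul_mem_smul a x C := a.2 x C
  eq_one a ha := by
    refine Subtype.ext (Prod.ext (Equiv.ext ha) (Equiv.ext fun C => ?_))
    refine eq_of_subset (P := P) (S := {x : P | x ∈ C}) ?_ (fun x hx => ?_) (fun x hx => hx)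
    · rw [IsSymDesign.on]
      exact hD.lt
    · have h := (a.2 x C).2 hx
      rwa [show a.1.1 x = x from ha x] at h

variable {P L : Type*} [Membership P L] {F : Type*} [Field F] {m : ℕ}
  (φ : P ≃ ℙ F (Fin (m + 1) → F)) (ψ : L ≃ ℙ F (Fin (m + 1) → F))

/-- The permutation of points induced by a matrix. -/
noncomputable def slPerm : Matrix.SpecialLinearGroup (Fin (m + 1)) F →* Equiv.Perm P :=
  (φ.symm.permCongrHom.toMonoidHom.comp Projectivization.PSLAction.toPermHom).comp
    (QuotientGroup.mk' _)

theorem slPerm_apply (g : Matrix.SpecialLinearGroup (Fin (m + 1)) F) (x : P) :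
    slPerm φ g x = φ.symm (g • φ x) := rfl

theorem dot_smul_rep {g h : Matrix.SpecialLinearGroup (Fin (m + 1)) F} (x y : ℙ F (Fin (m + 1) → F)) :
    (h • x).rep ⬝ᵥ (g • y).rep = 0 ↔ (h.1 *ᵥ x.rep) ⬝ᵥ (g.1 *ᵥ y.rep) = 0 := by
  conv_lhs => rw [← Projectivization.mk_rep x, ← Projectivization.mk_rep y,
    Projectivization.smul_mk, Projectivization.smul_mk]
  exact dot_rep _ _

theorem exists_aut (hinc : ∀ x C, x ∈ C ↔ (ψ C).rep ⬝ᵥ (φ x).rep = 0)
    (g : Matrix.SpecialLinearGroup (Fin (m + 1)) F) : ∃ a : autGroup P L, a.1.1 = slPerm φ g := by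
  refine ⟨⟨(slPerm φ g, ψ.symm.permCongr (MulAction.toPerm (g⁻¹).transpose)), fun x C => ?_⟩, rfl⟩
  show slPerm φ g x ∈ ψ.symm ((g⁻¹).transpose • ψ C) ↔ _
  rw [hinc, hinc, slPerm_apply, Equiv.apply_symm_apply, Equiv.apply_symm_apply, dot_smul_rep,
    Matrix.SpecialLinearGroup.coe_transpose, Matrix.mulVec_transpose, Matrix.dotProduct_mulVec,
    Matrix.vecMul_vecMul, ← Matrix.SpecialLinearGroup.coe_mul, inv_mul_cancel,
    Matrix.SpecialLinearGroup.coe_one, Matrix.vecMul_one]

/-- A transvection with centre `u` and axis `a`. -/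
noncomputable def transvec (u a : Fin (m + 1) → F) (h : a ⬝ᵥ u = 0) (c : F) :
    Matrix.SpecialLinearGroup (Fin (m + 1)) F :=
  ⟨1 + Matrix.vecMulVec (c • u) a, by
    rw [Matrix.vecMulVec_eq Unit, Matrix.det_one_add_replicateCol_mul_replicateRow, dotProduct_smul, h,
      smul_zero, add_zero]⟩

theorem transvec_apply {u a : Fin (m + 1) → F} (h : a ⬝ᵥ u = 0) (c : F) (v : Fin (m + 1) → F) :
    (transvec u a h c).1 *ᵥ v = v + (c * (a ⬝ᵥ v)) • u := by
  show (1 + Matrix.vecMulVec (c • u) a) *ᵥ v = _
  rw [Matrix.add_mulVec, Matrix.one_mulVec, Matrix.vecMulVec_mulVec, op_smul_eq_smul, smul_smul, mul_comm]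

theorem slPerm_eq_iff (g : Matrix.SpecialLinearGroup (Fin (m + 1)) F) (x x' : P) :
    slPerm φ g x = x' ↔ ∃ s : F, s • (φ x').rep = g.1 *ᵥ (φ x).rep := by
  rw [slPerm_apply, Equiv.symm_apply_eq]
  conv_lhs => rw [← Projectivization.mk_rep (φ x), ← Projectivization.mk_rep (φ x'), Projectivization.smul_mk]
  exact Projectivization.mk_eq_mk_iff' F _ _ _ _

variable {G : Type*} [Group G] [MulAction G P] [MulAction G L] [IsDesignAction G P L]
  {k l : ℕ} [Finite P] [Finite L] [Finite G] [hD : IsSymDesign P L k l] {B : L} {N : Subgroup G}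

/-- The action as a map into the automorphism group. -/
def toAut : G →* autGroup P L where
  toFun g := ⟨(MulAction.toPerm g, MulAction.toPerm g), fun x C => IsDesignAction.smul_mem_smul g x C⟩
  map_one' := Subtype.ext (Prod.ext (Equiv.ext fun x => one_smul G x) (Equiv.ext fun x => one_smul G x))
  map_mul' g h := Subtype.ext (Prod.ext (Equiv.ext fun x => mul_smul g h x) (Equiv.ext fun x => mul_smul g h x))

include hD

theorem toPermHom_injective' : Function.Injective (MulAction.toPermHom G P) :=
  (injective_iff_map_eq_one _).2 fun g hg =>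
    IsDesignAction.eq_one (L := L) g fun x => Equiv.ext_iff.1 hg x

/-- An element of an axial group with given centre acts as a transvection. -/
theorem IsAxial.eq_transvec (hA : IsAxial G P B N) (hinc : ∀ x C, x ∈ C ↔ (ψ C).rep ⬝ᵥ (φ x).rep = 0)
    {y : P} (hy : y ∈ B) {n : G} (hn : n ∈ part L N y) :
    ∃ c : F, MulAction.toPermHom G P n = slPerm φ (transvec (φ y).rep (ψ B).rep ((hinc y B).1 hy) c) := by
  classical
  set u := (φ y).rep with hu
  set a := (ψ B).rep with ha
  have hau : a ⬝ᵥ u = 0 := (hinc y B).1 hy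
  by_cases hn1 : n = 1
  · refine ⟨0, ?_⟩
    have h0 : transvec u a hau 0 = 1 := Subtype.ext (by
      show 1 + Matrix.vecMulVec ((0 : F) • u) a = 1
      simp)
    rw [hn1, map_one, h0, map_one]
  obtain ⟨x, hx⟩ := exists_off (P := P) B
  have hxy : x ≠ y := fun e => hx (e ▸ hy)
  have hax : a ⬝ᵥ (φ x).rep ≠ 0 := fun h => hx ((hinc x B).2 h)
  set x' := n • x
  have hx' : x' ∉ B := fun h => hx ((smul_mem_iff_of_fix (smul_block_of_fix (hA.le_axis hn.1)) x).1 h)
  have hspan : (φ x').rep ∈ Submodule.span F {(φ x).rep, u} := by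
    by_contra hnot
    obtain ⟨f, hf, hf0⟩ := Submodule.exists_dual_map_eq_bot_of_notMem hnot inferInstance
    rw [← LinearMap.le_ker_iff_map] at hf0
    let w : Fin (m + 1) → F := fun i => f (Pi.single i 1)
    have hw : ∀ v, w ⬝ᵥ v = f v := fun v => by
      rw [LinearMap.pi_apply_eq_sum_univ f v, dotProduct]
      refine Finset.sum_congr rfl fun i _ => ?_
      rw [smul_eq_mul, mul_comm]
      refine congrArg _ (congrArg f (funext fun j => ?_))
      simp [Pi.single_apply, eq_comm]
    have hw0 : w ≠ 0 := fun e => hf (by rw [← hw, e, zero_dotProduct])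
    have hmem : ∀ z : P, z ∈ ψ.symm (Projectivization.mk F w hw0) ↔ f (φ z).rep = 0 := fun z => by
      rw [hinc, Equiv.apply_symm_apply, ← hw]
      conv_lhs => rw [← Projectivization.mk_rep (φ z)]
      exact dot_rep _ _
    have hsub : ∀ v ∈ ({(φ x).rep, u} : Set (Fin (m + 1) → F)), f v = 0 := fun v hv =>
      hf0 (Submodule.subset_span hv)
    refine hf ((hmem x').1 ?_)
    exact (smul_mem_iff_of_fix (hn.2 _ ((hmem y).2 (hsub u (Or.inr rfl)))) x).2
      ((hmem x).2 (hsub _ (Or.inl rfl)))
  obtain ⟨s, r, hsr⟩ := Submodule.mem_span_pair.1 hspan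
  have hs : s ≠ 0 := by
    rintro rfl
    refine hx' ((hinc x' B).2 ?_)
    rw [← ha, ← hsr, zero_smul, zero_add, dotProduct_smul, hau, smul_zero]
  refine ⟨r * (s * (a ⬝ᵥ (φ x).rep))⁻¹, ?_⟩
  set T := transvec u a hau (r * (s * (a ⬝ᵥ (φ x).rep))⁻¹) with hT
  obtain ⟨α, hα⟩ := exists_aut φ ψ hinc T
  have hTB : ∀ z : P, z ∈ B → α • z = z := fun z hz => by
    show α.1.1 z = z
    rw [hα, slPerm_eq_iff]
    exact ⟨1, by rw [transvec_apply, show a ⬝ᵥ (φ z).rep = 0 from (hinc z B).1 hz, mul_zero, zero_smul, add_zero,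
      one_smul]⟩
  have hTx : α • x = x' := by
    show α.1.1 x = x'
    rw [hα, slPerm_eq_iff]
    refine ⟨s⁻¹, ?_⟩
    rw [transvec_apply, ← hsr, smul_add, smul_smul, smul_smul, inv_mul_cancel₀ hs, one_smul]
    congr 2
    field_simp
  have hTc : α ∈ centreGroup (autGroup P L) L y := by
    intro C hC
    refine eq_of_subset (P := P) (S := {z : P | z ∈ α • C}) ?_ (fun z hz => hz) (fun z hz => ?_)
    · rw [IsSymDesign.on]
      exact hD.lt
    · obtain ⟨z, rfl⟩ : ∃ z₀, α • z₀ = z := ⟨α⁻¹ • z, smul_inv_smul _ _⟩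
      have hz' : z ∈ C := (IsDesignAction.smul_mem_smul α z C).1 hz
      have he : α.1.1 z = slPerm φ T z := by rw [hα]
      obtain ⟨d, hd⟩ := (slPerm_eq_iff φ T z (α • z)).1 he.symm
      rw [transvec_apply] at hd
      have h1 := congrArg ((ψ C).rep ⬝ᵥ ·) hd
      simp only [dotProduct_smul, dotProduct_add, (hinc z C).1 hz', hu, (hinc y C).1 hC, smul_eq_mul, mul_zero, add_zero,
        mul_eq_zero] at h1
      refine (hinc _ C).2 (h1.resolve_left fun e => ?_)
      subst e
      rw [zero_smul, eq_comm] at hd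
      have h2 := congrArg (a ⬝ᵥ ·) hd
      simp only [dotProduct_add, dotProduct_smul, hau, smul_zero, add_zero, dotProduct_zero] at h2
      rw [h2, mul_zero, zero_smul, add_zero] at hd
      exact Projectivization.rep_nonzero _ hd
  let β : autGroup P L := toAut n
  have key : β⁻¹ * α = 1 := by
    refine eq_one_of_two_centres (B := B) (x := x) (y := y) (fun z hz => ?_) hx hxy ?_ ?_
    · rw [mul_smul, hTB z hz, inv_smul_eq_iff]
      exact (hA.le_axis hn.1 z hz).symm
    · refine mem_centreGroup_of_fix (B := B) (fun z hz => ?_) hx ?_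
      · rw [mul_smul, hTB z hz, inv_smul_eq_iff]
        exact (hA.le_axis hn.1 z hz).symm
      · rw [mul_smul, hTx, inv_smul_eq_iff]
        rfl
    · exact mul_mem (inv_mem fun C hC => hn.2 C hC) hTc
  rw [inv_mul_eq_one] at key
  rw [← hα, ← key]
  rfl

variable [Fintype F]

/-- The axial group is the group of transvections with its axis. -/
theorem IsAxial.exists_eq_transvec (hA : IsAxial G P B N) (hinc : ∀ x C, x ∈ C ↔ (ψ C).rep ⬝ᵥ (φ x).rep = 0)
    {y : P} (hy : y ∈ B) (hcard : Nat.card (part L N y) = Fintype.card F) (c : F) :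
    ∃ n ∈ N, MulAction.toPermHom G P n = slPerm φ (transvec (φ y).rep (ψ B).rep ((hinc y B).1 hy) c) := by
  choose f hf using fun n : part L N y => hA.eq_transvec φ ψ hinc hy n.2
  have hbij : Function.Bijective f := (Nat.bijective_iff_injective_and_card _).2
    ⟨fun n n' e => Subtype.ext (toPermHom_injective' (P := P) (L := L) ((hf n).trans (e ▸ (hf n').symm))),
      hcard.trans Nat.card_eq_fintype_card.symm⟩
  obtain ⟨n, rfl⟩ := hbij.2 c
  exact ⟨n, n.2.1, hf n⟩

/-- The normal subgroup generated by an axial group. -/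
theorem IsAxial.recognition (hA : IsAxial G P B N) (hinc : ∀ x C, x ∈ C ↔ (ψ C).rep ⬝ᵥ (φ x).rep = 0)
    (hcard : ∀ p ∈ B, Nat.card (part L N p) = Fintype.card F) :
    ∃ M : Subgroup G, M.Normal ∧ Nonempty (M ≃* Matrix.ProjectiveSpecialLinearGroup (Fin (m + 1)) F) ∧
      Subgroup.centralizer (M : Set G) = ⊥ := by
  classical
  have hconj : ∀ g : G, ∀ n ∈ N.map (MulAut.conj g).toMonoidHom, n ∈ Subgroup.normalClosure (N : Set G) := by
    rintro g _ ⟨a, ha, rfl⟩
    exact Subgroup.normalClosure_normal.conj_mem a (Subgroup.subset_normalClosure ha) g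
  refine ⟨Subgroup.normalClosure (N : Set G), Subgroup.normalClosure_normal, ?_, ?_⟩
  · set R : Matrix.ProjectiveSpecialLinearGroup (Fin (m + 1)) F →* Equiv.Perm P :=
      φ.symm.permCongrHom.toMonoidHom.comp Projectivization.PSLAction.toPermHom with hR
    have hRinj : Function.Injective R :=
      φ.symm.permCongrHom.injective.comp Matrix.ProjectiveSpecialLinearGroup.toPermHom_injective
    have himage : (Subgroup.normalClosure (N : Set G)).map (MulAction.toPermHom G P) = R.range := by
      refine le_antisymm ?_ ?_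
      · rw [Subgroup.normalClosure, MonoidHom.map_closure, Subgroup.closure_le]
        rintro _ ⟨n, hn, rfl⟩
        obtain ⟨a, ha, hconj'⟩ := Group.mem_conjugatesOfSet_iff.1 hn
        obtain ⟨g, rfl⟩ := isConj_iff.1 hconj'
        have hA' := hA.smul g
        obtain ⟨y, hy, hny⟩ := hA'.exists_part (g := g * a * g⁻¹) ⟨a, ha, rfl⟩
        haveI := hA'.isMulCommutative
        obtain ⟨c, hc⟩ := hA'.eq_transvec φ ψ hinc hy hny
        exact ⟨_, hc.symm⟩
      · rw [MonoidHom.range_eq_map, ← Subgroup.map_top_of_surjective (QuotientGroup.mk' _)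
          (QuotientGroup.mk'_surjective (Subgroup.center (Matrix.SpecialLinearGroup (Fin (m + 1)) F))),
          Subgroup.map_map, Subgroup.map_le_iff_le_comap, top_le_iff]
        refine CfsgLib.Classical.sl_subgroup_eq_top _ fun i j hij c => ?_
        set y := φ.symm (Projectivization.mk F (Pi.single i (1 : F)) (Pi.single_ne_zero_iff.2 one_ne_zero))
        obtain ⟨g, hg⟩ := hA.transitive
          (ψ.symm (Projectivization.mk F (Pi.single j (1 : F)) (Pi.single_ne_zero_iff.2 one_ne_zero)))
        have hy : y ∈ g • B := by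
          rw [hg, hinc, Equiv.apply_symm_apply, Equiv.apply_symm_apply, dot_rep, single_dotProduct, one_mul,
            Pi.single_eq_of_ne hij.symm]
        have hA' := hA.smul g
        haveI := hA'.isMulCommutative
        obtain ⟨t, -, hkl, -, -, hpart, -⟩ := hA.params
        obtain ⟨t', -, hkl', -, -, hpart', -⟩ := hA'.params
        have htt : t' = t := Nat.eq_of_mul_eq_mul_left hD.pos (hkl'.symm.trans hkl)
        obtain ⟨p, hp, -⟩ := hA.exists_part (one_mem N)
        have hcard' : Nat.card (part L (N.map (MulAut.conj g).toMonoidHom) y) = Fintype.card F := by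
          rw [show Nat.card (part L (N.map (MulAut.conj g).toMonoidHom) y) = t' from hpart' y hy, htt,
            ← hcard p hp]
          exact (hpart p hp).symm
        obtain ⟨s, hs⟩ := Projectivization.exists_smul_eq_mk_rep F (Pi.single i (1 : F) : Fin (m + 1) → F)
          (Pi.single_ne_zero_iff.2 one_ne_zero)
        obtain ⟨r, hr⟩ := Projectivization.exists_smul_eq_mk_rep F (Pi.single j (1 : F) : Fin (m + 1) → F)
          (Pi.single_ne_zero_iff.2 one_ne_zero)
        obtain ⟨n, hn, hn'⟩ := hA'.exists_eq_transvec φ ψ hinc hy hcard' (c / ((s : F) * r))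
        refine ⟨n, hconj g n hn, hn'.trans (congrArg (slPerm φ) (Subtype.ext ?_))⟩
        show 1 + Matrix.vecMulVec ((c / ((s : F) * r)) • (φ y).rep) (ψ (g • B)).rep = Matrix.transvection i j c
        rw [hg, Equiv.apply_symm_apply, Equiv.apply_symm_apply, ← hs, ← hr, Matrix.transvection]
        congr 1
        ext a b
        have hs0 := s.ne_zero
        have hr0 := r.ne_zero
        simp only [Matrix.vecMulVec_apply, Matrix.single_apply, Pi.smul_apply, Units.smul_def, smul_eq_mul,
          Pi.single_apply]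
        by_cases hai : a = i
        · by_cases hbj : b = j
          · rw [if_pos hai, if_pos hbj, if_pos ⟨hai.symm, hbj.symm⟩]
            field_simp
          · rw [if_neg hbj, if_neg (show ¬(i = a ∧ j = b) from fun h => hbj h.2.symm), mul_zero, mul_zero]
        · rw [if_neg hai, if_neg (show ¬(i = a ∧ j = b) from fun h => hai h.1.symm), mul_zero, mul_zero, zero_mul]
    exact ⟨((Subgroup.normalClosure (N : Set G)).equivMapOfInjective _ (toPermHom_injective' (L := L))).trans
      ((MulEquiv.subgroupCongr himage).trans (MonoidHom.ofInjective hRinj).symm)⟩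
  · rw [Subgroup.eq_bot_iff_forall]
    intro z hz
    refine eq_one_of_fix_blocks (P := P) (L := L) fun C => ?_
    obtain ⟨g, rfl⟩ := hA.transitive C
    have hA' := hA.smul g
    obtain ⟨⟨n, hn⟩, hn1⟩ := Subgroup.ne_bot_iff_exists_ne_one.1 hA'.ne_bot
    refine eq_of_subset (P := P) (S := {x : P | x ∈ z • g • B}) ?_ (fun x hx => hx) (fun x hx => ?_)
    · rw [IsSymDesign.on]
      exact hD.lt
    · obtain ⟨w, rfl⟩ : ∃ w, z • w = x := ⟨z⁻¹ • x, smul_inv_smul _ _⟩
      have hw : w ∈ g • B := (IsDesignAction.smul_mem_smul z w _).1 hx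
      by_contra hout
      refine hn1 (Subtype.ext (hA'.free n hn _ hout ?_))
      rw [← mul_smul, Subgroup.mem_centralizer_iff.1 hz n (hconj g n hn), mul_smul, hA'.le_axis hn w hw]

end CfsgLib.DesignAxial
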