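import Cfsg.Agent.Lib.DesignAxial.Ratio

/-!
# Scalars

The field of ratios at one centre acts on the whole axial group, preserving every part.
-/

set_option autoImplicit false
set_option linter.unusedSectionVars false
set_option backward.isDefEq.respectTransparency false

namespace CfsgLib.DesignAxial

open MulAction

variable {G P L : Type*} [Group G] [MulAction G P] [MulAction G L] [Membership P L] [IsDesignAction G P L]
  {k l : ℕ} [Finite P] [Finite L] [Finite G] [hD : IsSymDesign P L k l] {B : L} {N : Subgroup G}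
  [IsMulCommutative N]

/-- A commutative subgroup is a commutative group. -/
instance (priority := low) commGroupAxis (N : Subgroup G) [hN : IsMulCommutative N] : CommGroup N :=
  { (inferInstance : Group N) with mul_comm := fun a b => hN.is_comm.comm a b }

/-- A map of `N` acting on every part like a fixed element of the ratio field at `p`. -/
structure IsScalarMap (B : L) (p : P) (M : Subring (PartEnd L N p)) (lam : G → G) : Prop where
  mem : ∀ z ∈ B, ∀ x ∈ part L N z, lam x ∈ part L N z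
  hom : ∀ z ∈ B, ∀ x ∈ part L N z, ∀ y ∈ part L N z, lam (x * y) = lam x * lam y
  comm : ∀ α ∈ M, ∀ u v : part L N p, (v : G) = lam u →
    lam (val (α : PartHom L N p p) u) = val (α : PartHom L N p p) v
  slope : ∀ z ∈ B, p ≠ z → ∀ f ∈ Slope B N p z, ∀ u v : part L N p, (v : G) = lam u →
    lam (val f u) = val f v

include hD

theorem IsScalarMap.map_one {p : P} {M : Subring (PartEnd L N p)} {lam : G → G} (hp : p ∈ B)
    (h : IsScalarMap B p M lam) : lam 1 = 1 := by
  have h1 := h.hom p hp 1 (one_mem _) 1 (one_mem _)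
  rwa [mul_one, left_eq_mul] at h1

/-- A point of `part p ⊔ part z` determines its two components. -/
theorem IsAxial.decomp_unique (hA : IsAxial G P B N) {p z : P} (hpz : p ≠ z) {a a' b b' : G}
    (ha : a ∈ part L N p) (ha' : a' ∈ part L N p) (hb : b ∈ part L N z) (hb' : b' ∈ part L N z)
    (e : a * b = a' * b') : a = a' ∧ b = b' := by
  have h1 : a'⁻¹ * a = b' * b⁻¹ := by rw [eq_mul_inv_iff_mul_eq, mul_assoc, e, inv_mul_cancel_left]
  have h2 := hA.part_inf hpz (mul_mem (inv_mem ha') ha) (h1 ▸ mul_mem hb' (inv_mem hb))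
  exact ⟨(inv_mul_eq_one.1 h2).symm, (mul_inv_eq_one.1 (h1 ▸ h2)).symm⟩

/-- A scalar map is additive on the planes through `p`. -/
theorem IsAxial.scalar_mul_base (hA : IsAxial G P B N) {p : P} {M : Subring (PartEnd L N p)} (hM : IsScalarField M)
    (hR : ∀ z ∈ B, p ≠ z → RatioRing B p M z) (hp : p ∈ B) {lam : G → G} (h : IsScalarMap B p M lam) {a b : G}
    (ha : a ∈ part L N p) (hb : b ∈ N) : lam (a * b) = lam a * lam b := by
  obtain ⟨z, hz, hbz⟩ := hA.exists_part hb
  by_cases hpz : p = z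
  · exact h.hom p hp a ha b (hpz ▸ hbz)
  by_cases ha1 : a = 1
  · rw [ha1, one_mul, h.map_one hp, one_mul]
  by_cases hb1 : b = 1
  · rw [hb1, mul_one, h.map_one hp, mul_one]
  have hab : a * b ≠ 1 := fun e => ha1 (hA.part_inf hpz ha (eq_inv_of_mul_eq_one_left e ▸ inv_mem hbz))
  obtain ⟨y, hy, hy'⟩ := hA.exists_part (mul_mem ha.1 hb)
  have hline : y ∈ line L p z := fun C hpC hzC => by
    refine (hA.smul_eq_iff hy' hab C).1 ?_
    rw [mul_smul, hbz.2 C hzC, ha.2 C hpC]
  have hpy : p ≠ y := fun e => hb1 (hA.part_inf hpz (by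
    subst e
    simpa using mul_mem (inv_mem ha) hy') hbz)
  have hau : (⟨a, ha⟩ : part L N p) ≠ 1 := fun e => ha1 (congrArg Subtype.val e)
  obtain ⟨μ, hμ, hμa⟩ := hA.exists_slope' hp hz hpz hau hbz
  have hμ0 : μ ≠ 0 := fun e => hb1 (by rw [← hμa, e, val_zero])
  obtain ⟨f, hf, hfa⟩ := hA.exists_slope' hp hy hpy hau hy'
  obtain ⟨α, hα, κ, hκ, he⟩ := hA.slope_coords hM (hR z hz hpz) hp hz hy hpz hpy hline hμ hμ0 hf
  obtain ⟨hαa, hκa⟩ := hA.decomp_unique hpz ha (val_mem _ _) hbz (val_mem _ _) (hfa.symm.trans (he ⟨a, ha⟩))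
  let v : part L N p := ⟨lam a, h.mem p hp a ha⟩
  calc lam (a * b) = val f v := by rw [← hfa]; exact h.slope y hy hpy f hf _ v rfl
    _ = val (α : PartHom L N p p) v * val (μ.comp κ) v := he v
    _ = lam a * lam b := by
      rw [← h.comm α hα ⟨a, ha⟩ v rfl, ← hαa]
      congr 1
      rw [val_comp, hκa, val_comp]
      exact (h.slope z hz hpz μ hμ _ _ (h.comm κ hκ ⟨a, ha⟩ v rfl).symm).symm

/-- Away from the planes through `p`, a scalar map respects the centre of a product. -/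
theorem IsAxial.scalar_mul_indep (hA : IsAxial G P B N) {p : P} {M : Subring (PartEnd L N p)}
    (hp : p ∈ B) {lam : G → G} (h : IsScalarMap B p M lam)
    {z₁ z₂ z₃ : P} (h1 : z₁ ∈ B) (h2 : z₂ ∈ B) (hp1 : p ≠ z₁) (hp2 : p ≠ z₂) (h12 : z₁ ≠ z₂)
    (hind : ¬part L N z₂ ≤ part L N p ⊔ part L N z₁) {x y : G} (hx : x ∈ part L N z₁) (hy : y ∈ part L N z₂)
    (hx1 : x ≠ 1) (hxy : x * y ∈ part L N z₃) : lam x * lam y ∈ part L N z₃ := by
  have hne : x * y ≠ 1 := fun e => hx1 (hA.part_inf h12 hx (eq_inv_of_mul_eq_one_left e ▸ inv_mem hy))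
  have hpl : p ∉ line L z₂ z₁ := fun hl => by
    obtain ⟨u, hu, hu1⟩ := hA.part_ne_bot hp
    have hle := hA.part_le_sup h2 h1 hp h12.symm (Or.inl hl)
    obtain ⟨a, ha, b, hb, rfl⟩ := hA.mem_sup_parts (hle hu)
    have ha1 : a ≠ 1 := fun e => hu1 (by
      subst e
      rw [one_mul] at hu ⊢
      exact hA.part_inf hp1 hu hb)
    refine hind (hA.part_le_sup hp h1 h2 hp1 (Or.inr ⟨a, ?_, ha1, ha⟩))
    simpa using mul_mem (Subgroup.mem_sup_left hu) (Subgroup.mem_sup_right (inv_mem hb) (S := part L N p))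
  obtain ⟨u, hu, hu1⟩ := hA.part_ne_bot hp
  obtain ⟨f, hf, hfu⟩ := hA.exists_slope' hp h1 hp1 (u := ⟨u, hu⟩) (fun e => hu1 (congrArg Subtype.val e)) hx
  obtain ⟨σ, hσ, hσx⟩ := hA.exists_slope' h1 h2 h12 (u := ⟨x, hx⟩) (fun e => hx1 (congrArg Subtype.val e)) hy
  have hc := hA.slope_comp hp h1 h2 hp1 hp2 h12 hpl hf hσ
  have hfx : (⟨val f ⟨u, hu⟩, val_mem _ _⟩ : part L N z₁) = ⟨x, hx⟩ := Subtype.ext hfu
  let v : part L N p := ⟨lam u, h.mem p hp u hu⟩
  have hlx : val f v = lam x := by rw [← hfu]; exact (h.slope z₁ h1 hp1 f hf _ v rfl).symm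
  have hly : lam y = val σ ⟨lam x, h.mem z₁ h1 x hx⟩ := by
    have h' := h.slope z₂ h2 hp2 _ hc ⟨u, hu⟩ v rfl
    rw [val_comp, hfx, hσx, val_comp] at h'
    exact h'.trans (congrArg (val σ) (Subtype.ext hlx))
  obtain ⟨a, haB, ha⟩ := id hσ
  have hg : ∀ w : part L N z₁, (w : G) * val σ w ∈ part L N (a • z₁) := fun w =>
    ha w ▸ ⟨hA.conj a haB w w.2.1, conj_mem_centre w.2.2 a⟩
  have hz : a • z₁ = z₃ := hA.part_eq hne (by
    have h0 := hg ⟨x, hx⟩
    rwa [hσx] at h0) hxy
  rw [hly, ← hz]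
  exact hg ⟨lam x, h.mem z₁ h1 x hx⟩

/-- A scalar map is additive. -/
theorem IsAxial.scalar_mul (hA : IsAxial G P B N) {p : P} {M : Subring (PartEnd L N p)} (hM : IsScalarField M)
    (hR : ∀ z ∈ B, p ≠ z → RatioRing B p M z) (hp : p ∈ B) {lam : G → G} (h : IsScalarMap B p M lam) {x y : G}
    (hx : x ∈ N) (hy : y ∈ N) : lam (x * y) = lam x * lam y := by
  have hN : ∀ {g : G}, g ∈ N → lam g ∈ N := fun hg => by
    obtain ⟨z, hz, hgz⟩ := hA.exists_part hg
    exact (h.mem z hz _ hgz).1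
  have hbase : ∀ {a b : G}, a ∈ part L N p → b ∈ N → lam (a * b) = lam a * lam b := fun ha hb =>
    hA.scalar_mul_base hM hR hp h ha hb
  obtain ⟨z₁, h1, hx'⟩ := hA.exists_part hx
  obtain ⟨z₂, h2, hy'⟩ := hA.exists_part hy
  by_cases h12 : z₁ = z₂
  · exact h.hom z₁ h1 x hx' y (h12 ▸ hy')
  by_cases hx1 : x = 1
  · rw [hx1, one_mul, h.map_one hp, one_mul]
  by_cases hp1 : p = z₁
  · exact hbase (hp1 ▸ hx') hy
  by_cases hp2 : p = z₂
  · rw [hA.comm hx hy, hA.comm (hN hx) (hN hy)]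
    exact hbase (hp2 ▸ hy') hx
  by_cases hdep : part L N z₂ ≤ part L N p ⊔ part L N z₁
  · obtain ⟨a, ha, b, hb, rfl⟩ := hA.mem_sup_parts (hdep hy')
    have e : x * (a * b) = a * (x * b) := by rw [← mul_assoc, hA.comm hx ha.1, mul_assoc]
    rw [e, hbase ha (mul_mem hx hb.1), h.hom z₁ h1 x hx' b hb, hbase ha hb.1, ← mul_assoc, ← mul_assoc,
      hA.comm (hN ha.1) (hN hx)]
  obtain ⟨z₃, h3, hxy⟩ := hA.exists_part (mul_mem hx hy)
  obtain ⟨u, hu, hu1⟩ := hA.part_ne_bot hp
  obtain ⟨z₄, h4, hux⟩ := hA.exists_part (mul_mem hu.1 hx)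
  obtain ⟨z₅, h5, huxy⟩ := hA.exists_part (mul_mem hu.1 (mul_mem hx hy))
  have hsup : u * x ∈ part L N p ⊔ part L N z₁ :=
    mul_mem (Subgroup.mem_sup_left hu) (Subgroup.mem_sup_right hx')
  have hux1 : u * x ≠ 1 := fun e => hu1 (hA.part_inf hp1 hu (eq_inv_of_mul_eq_one_left e ▸ inv_mem hx'))
  have hp4 : p ≠ z₄ := fun e => hx1 (hA.part_inf hp1 (by
    subst e
    simpa using mul_mem (inv_mem hu) hux) hx')
  have hle4 : part L N z₄ ≤ part L N p ⊔ part L N z₁ :=
    hA.part_le_sup hp h1 h4 hp1 (Or.inr ⟨u * x, hsup, hux1, hux⟩)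
  have h42 : z₄ ≠ z₂ := fun e => hdep (e ▸ hle4)
  have hind : ¬part L N z₂ ≤ part L N p ⊔ part L N z₄ := fun hle =>
    hdep (hle.trans (sup_le le_sup_left hle4))
  have hxy1 : x * y ≠ 1 := fun e => hx1 (hA.part_inf h12 hx' (eq_inv_of_mul_eq_one_left e ▸ inv_mem hy'))
  have h35 : z₅ ≠ z₃ := fun e => hdep (by
    subst e
    have hu3 : u ∈ part L N z₅ := by
      have h' := mul_mem huxy (inv_mem hxy)
      rwa [mul_inv_cancel_right] at h'
    obtain rfl := hA.part_eq hu1 hu hu3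
    by_cases hy1 : y = 1
    · subst hy1
      rw [mul_one] at hxy
      exact absurd (hA.part_inf hp1 hxy hx') hx1
    exact hA.part_le_sup hp h1 h2 hp1 (Or.inr ⟨y, by
      simpa using mul_mem (Subgroup.mem_sup_right (inv_mem hx') (S := part L N p)) (Subgroup.mem_sup_left hxy),
      hy1, hy'⟩))
  set D := lam x * lam y * (lam (x * y))⁻¹
  have hD3 : D ∈ part L N z₃ :=
    mul_mem (hA.scalar_mul_indep hp h h1 h2 hp1 hp2 h12 hdep hx' hy' hx1 hxy) (inv_mem (h.mem z₃ h3 _ hxy))
  have hD5 : D ∈ part L N z₅ := by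
    have h' := mul_mem (hA.scalar_mul_indep hp h h4 h2 hp4 hp2 h42 hind hux hy' hux1 (mul_assoc u x y ▸ huxy))
      (inv_mem (h.mem z₅ h5 _ huxy))
    rw [hbase hu hx, hbase hu (mul_mem hx hy)] at h'
    have e : lam u * lam x * lam y * (lam u * lam (x * y))⁻¹ = lam u * D * (lam u)⁻¹ := by
      simp only [D]
      group
    rwa [e, hA.comm (hN hu.1) hD3.1, mul_inv_cancel_right] at h'
  exact (mul_inv_eq_one.1 (hA.part_inf h35.symm hD3 hD5)).symm

/-- The ratio field acts on each part. -/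
theorem IsAxial.exists_local_scalars (hA : IsAxial G P B N) {p : P} {M : Subring (PartEnd L N p)}
    (hM : IsScalarField M) (hR : ∀ z ∈ B, p ≠ z → RatioRing B p M z) (hp : p ∈ B) (z : P) (hz : z ∈ B) :
    ∃ Λ : M →+* PartEnd L N z, (∀ c : M, p = z → ∀ u : part L N p, ∀ w : part L N z, (w : G) = u →
      val (Λ c : PartHom L N z z) w = val ((c : PartEnd L N p) : PartHom L N p p) u) ∧
      (p ≠ z → ∀ f ∈ Slope B N p z, ∀ c : M, ∀ u : part L N p,
        val f ⟨val ((c : PartEnd L N p) : PartHom L N p p) u, val_mem _ _⟩ =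
          val (Λ c : PartHom L N z z) ⟨val f u, val_mem _ _⟩) := by
  by_cases hpz : p = z
  · subst hpz
    exact ⟨M.subtype, fun c _ u w e => by rw [Subtype.ext e]; rfl, fun h => absurd rfl h⟩
  obtain ⟨u, hu, hu1⟩ := hA.part_ne_bot hp
  obtain ⟨v, hv, hv1⟩ := hA.part_ne_bot hz
  obtain ⟨μ, hμ, hμv⟩ := hA.exists_slope' hp hz hpz (u := ⟨u, hu⟩) (fun e => hu1 (congrArg Subtype.val e)) hv
  have hμ0 : μ ≠ 0 := fun e => hv1 (by rw [← hμv, e, val_zero])
  obtain ⟨ν, -, hνμ, hμν⟩ := hA.slope_inv hp hz hpz hμ hμ0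
  have hνμ' : ∀ x, ν (μ x) = x := fun x => DFunLike.congr_fun hνμ x
  have hμν' : ∀ x, μ (ν x) = x := fun x => DFunLike.congr_fun hμν x
  let Λ : M →+* PartEnd L N z :=
    { toFun := fun c => μ.comp (AddMonoidHom.comp (c : PartEnd L N p) ν)
      map_one' := AddMonoidHom.ext fun x => hμν' x
      map_mul' := fun c d => AddMonoidHom.ext fun x =>
        (congrArg (fun y => μ ((c : PartEnd L N p) y)) (hνμ' ((d : PartEnd L N p) (ν x)))).symm
      map_zero' := AddMonoidHom.ext fun x => map_zero μ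
      map_add' := fun c d => AddMonoidHom.ext fun x => map_add μ _ _ }
  refine ⟨Λ, fun c e => absurd e hpz, fun _ f hf c u => ?_⟩
  have hm : (ν.comp f : PartEnd L N p) ∈ M := (hR z hz hpz).ratio μ hμ hμ0 ν hνμ f hf
  have hc := DFunLike.congr_fun (hM.comm _ hm c c.2) (Additive.ofMul u)
  show ((Additive.toMul (f ((c : PartEnd L N p) (Additive.ofMul u))) : part L N z) : G) =
    ((Additive.toMul (μ ((c : PartEnd L N p) (ν (f (Additive.ofMul u))))) : part L N z) : G)
  rw [← hμν' (f ((c : PartEnd L N p) (Additive.ofMul u)))]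
  exact congrArg (fun y => ((Additive.toMul (μ y) : part L N z) : G)) hc


/-- An axial group is a vector space whose parts are the lines. -/
theorem IsAxial.exists_scalars (hA : IsAxial G P B N) :
    ∃ (F : Type) (_ : Field F) (_ : Fintype F) (Λ : F →+* AddMonoid.End (Additive N)),
      (∀ p ∈ B, Nat.card (part L N p) = Fintype.card F) ∧
      ∀ p ∈ B, ∀ (c : F) (x : N), (x : G) ∈ part L N p →
        ((Additive.toMul (Λ c (Additive.ofMul x)) : N) : G) ∈ part L N p := by
  classical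
  obtain ⟨t, ht, -, -, -, hpart, -⟩ := hA.params
  obtain ⟨p, hp⟩ : ∃ p : P, p ∈ B := by
    obtain ⟨p, hp, -⟩ := hA.exists_part (one_mem N)
    exact ⟨p, hp⟩
  obtain ⟨q, hq, hqp⟩ := hA.exists_on_ne p
  obtain ⟨M, hM, hMq, hMcard⟩ := hA.exists_ratioRing hp hq hqp.symm
  have hR : ∀ z ∈ B, p ≠ z → RatioRing B p M z := fun z hz hpz => hA.ratioRing_all hM hMq hp hq hz hqp.symm hpz
  choose Λ hΛp hΛs using fun z hz => hA.exists_local_scalars hM hR hp z hz
  let lam : M → G → G := fun c x => if h : ∃ z, z ∈ B ∧ x ∈ part L N z then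
    val (Λ h.choose h.choose_spec.1 c : PartHom L N h.choose h.choose) ⟨x, h.choose_spec.2⟩ else 1
  have hlam : ∀ (c : M) (z : P) (hz : z ∈ B) (x : part L N z),
      lam c x = val (Λ z hz c : PartHom L N z z) x := by
    intro c z hz x
    have h : ∃ w, w ∈ B ∧ (x : G) ∈ part L N w := ⟨z, hz, x.2⟩
    simp only [lam, dif_pos h]
    have key : ∀ (w : P) (hw : w ∈ B) (hxw : (x : G) ∈ part L N w),
        val (Λ w hw c : PartHom L N w w) ⟨x, hxw⟩ = val (Λ z hz c : PartHom L N z z) x := by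
      intro w hw hxw
      by_cases hx1 : (x : G) = 1
      · obtain rfl : x = 1 := Subtype.ext hx1
        exact ((congrArg (val _) (Subtype.ext rfl)).trans (val_one _)).trans (val_one _).symm
      obtain rfl := hA.part_eq hx1 hxw x.2
      rfl
    exact key _ h.choose_spec.1 _
  have hS : ∀ c : M, IsScalarMap B p M (lam c) := fun c =>
    { mem := fun z hz x hx => hlam c z hz ⟨x, hx⟩ ▸ val_mem _ _
      hom := fun z hz x hx y hy => by
        rw [show x * y = ((⟨x, hx⟩ * ⟨y, hy⟩ : part L N z) : G) from rfl, hlam, hlam c z hz ⟨x, hx⟩,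
          hlam c z hz ⟨y, hy⟩]
        show ((Additive.toMul (Λ z hz c (Additive.ofMul ⟨x, hx⟩ + Additive.ofMul ⟨y, hy⟩)) : part L N z) : G) = _
        rw [map_add]
        rfl
      comm := fun α hα u v hv => by
        rw [hlam c p hp u, hΛp p hp c rfl u u rfl] at hv
        rw [hlam c p hp ⟨val (α : PartHom L N p p) u, val_mem _ _⟩, hΛp p hp c rfl _ _ rfl,
          show v = ⟨val ((c : PartEnd L N p) : PartHom L N p p) u, val_mem _ _⟩ from Subtype.ext hv]
        exact congrArg (fun e : PartEnd L N p => val (e : PartHom L N p p) u) (hM.comm c c.2 α hα)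
      slope := fun z hz hpz f hf u v hv => by
        rw [hlam c p hp u, hΛp p hp c rfl u u rfl] at hv
        rw [hlam c z hz ⟨val f u, val_mem _ _⟩, ← hΛs z hz hpz f hf c u]
        exact congrArg (val f) (Subtype.ext hv.symm) }
  have hmul : ∀ (c : M) {x y : G}, x ∈ N → y ∈ N → lam c (x * y) = lam c x * lam c y := fun c _ _ hx hy =>
    hA.scalar_mul hM hR hp (hS c) hx hy
  have hmem : ∀ (c : M) (x : N), lam c x ∈ N := fun c x => by
    obtain ⟨z, hz, hxz⟩ := hA.exists_part x.2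
    exact ((hS c).mem z hz _ hxz).1
  let Φ : M → AddMonoid.End (Additive N) := fun c => MonoidHom.toAdditive
    (MonoidHom.mk' (fun x : N => (⟨lam c x, hmem c x⟩ : N)) fun x y => Subtype.ext (hmul c x.2 y.2))
  have hΦ : ∀ (c : M) (x : Additive N), ((Additive.toMul (Φ c x) : N) : G) = lam c (Additive.toMul x : N) :=
    fun _ _ => rfl
  let Φ' : M →+* AddMonoid.End (Additive N) :=
    { toFun := Φ
      map_one' := AddMonoidHom.ext fun x => congrArg Additive.ofMul (Subtype.ext (by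
        show lam 1 ((Additive.toMul x : N) : G) = _
        obtain ⟨z, hz, hxz⟩ := hA.exists_part (Additive.toMul x : N).2
        rw [hlam 1 z hz ⟨_, hxz⟩, map_one]
        rfl))
      map_mul' := fun c d => AddMonoidHom.ext fun x => congrArg Additive.ofMul (Subtype.ext (by
        show lam (c * d) ((Additive.toMul x : N) : G) = lam c (lam d ((Additive.toMul x : N) : G))
        obtain ⟨z, hz, hxz⟩ := hA.exists_part (Additive.toMul x : N).2
        rw [hlam d z hz ⟨_, hxz⟩, hlam c z hz ⟨_, val_mem _ _⟩, hlam (c * d) z hz ⟨_, hxz⟩, map_mul]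
        rfl))
      map_zero' := AddMonoidHom.ext fun x => congrArg Additive.ofMul (Subtype.ext (by
        show lam 0 ((Additive.toMul x : N) : G) = _
        obtain ⟨z, hz, hxz⟩ := hA.exists_part (Additive.toMul x : N).2
        rw [hlam 0 z hz ⟨_, hxz⟩, map_zero]
        rfl))
      map_add' := fun c d => AddMonoidHom.ext fun x => congrArg Additive.ofMul (Subtype.ext (by
        show lam (c + d) ((Additive.toMul x : N) : G) = lam c _ * lam d ((Additive.toMul x : N) : G)
        obtain ⟨z, hz, hxz⟩ := hA.exists_part (Additive.toMul x : N).2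
        rw [hlam d z hz ⟨_, hxz⟩, hlam c z hz ⟨_, hxz⟩, hlam (c + d) z hz ⟨_, hxz⟩, map_add]
        rfl)) }
  haveI : Finite (Additive (part L N p)) := inferInstanceAs (Finite (part L N p))
  haveI : Finite (PartEnd L N p) := Finite.of_injective
    (fun g => (g : Additive (part L N p) → Additive (part L N p))) DFunLike.coe_injective
  have hMt : Nat.card M = t := hMcard.trans (hpart p hp)
  haveI : Nontrivial M := Finite.one_lt_card_iff_nontrivial.1 (by omega)
  have hfield : IsField M :=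
    { exists_pair_ne := exists_pair_ne M
      mul_comm := fun a b => Subtype.ext (hM.comm a a.2 b b.2)
      mul_inv_cancel := fun {a} ha => by
        obtain ⟨b, hb, -, hab⟩ := hM.inv a a.2 (fun e => ha (Subtype.ext e))
        exact ⟨⟨b, hb⟩, Subtype.ext hab⟩ }
  letI : Field M := hfield.toField
  haveI : Finite (Shrink.{0} M) := Finite.of_equiv M (equivShrink.{0} M)
  letI : Fintype (Shrink.{0} M) := Fintype.ofFinite _
  refine ⟨Shrink.{0} M, inferInstance, inferInstance, Φ'.comp (Shrink.ringEquiv.{0} M).toRingHom, ?_, ?_⟩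
  · intro z hz
    rw [← Nat.card_eq_fintype_card, ← Nat.card_congr (equivShrink.{0} M), hMt]
    exact hpart z hz
  · intro z hz c x hx
    exact (hS _).mem z hz x hx

end CfsgLib.DesignAxial
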