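import Cfsg.Agent.Lib.DesignAxial.Translation

/-!
# Slopes

Conjugation by an element fixing `B` carries the part with centre `p` onto another part, which is
the graph of a homomorphism when it lies in the span of two parts.  These homomorphisms are the
slopes; they are closed under addition, inversion and composition.
-/

set_option autoImplicit false
set_option linter.unusedSectionVars false

namespace CfsgLib.DesignAxial

open MulAction

variable {G P L : Type*} [Group G] [MulAction G P] [MulAction G L] [Membership P L] [IsDesignAction G P L]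
  {k l : ℕ} [Finite P] [Finite L] [Finite G] [hD : IsSymDesign P L k l] {B : L} {N : Subgroup G}

/-- Subgroups of a commutative subgroup are commutative groups. -/
instance commGroupPart [hN : IsMulCommutative N] (p : P) : CommGroup (part L N p) :=
  { (inferInstance : Group (part L N p)) with
    mul_comm := fun a b => Subtype.ext (by
      simpa using congrArg Subtype.val (hN.is_comm.comm (⟨(a : G), a.2.1⟩ : N) ⟨(b : G), b.2.1⟩)) }

/-- A homomorphism between two parts, written additively. -/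
abbrev PartHom (L : Type*) [MulAction G L] [Membership P L] (N : Subgroup G) [IsMulCommutative N] (p q : P) :=
  Additive (part L N p) →+ Additive (part L N q)

/-- The value of such a homomorphism, in `G`. -/
def val [IsMulCommutative N] {p q : P} (f : PartHom L N p q) (u : part L N p) : G :=
  (Additive.toMul (f (Additive.ofMul u)) : part L N q)

theorem val_mem [IsMulCommutative N] {p q : P} (f : PartHom L N p q) (u : part L N p) :
    val f u ∈ part L N q := (Additive.toMul (f (Additive.ofMul u))).2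

theorem hom_ext [IsMulCommutative N] {p q : P} {f g : PartHom L N p q} (h : ∀ u, val f u = val g u) : f = g :=
  AddMonoidHom.ext fun u => congrArg Additive.ofMul (Subtype.ext (h (Additive.toMul u)))

theorem val_add [IsMulCommutative N] {p q : P} (f g : PartHom L N p q) (u : part L N p) :
    val (f + g) u = val f u * val g u := rfl

theorem val_zero [IsMulCommutative N] {p q : P} (u : part L N p) : val (0 : PartHom L N p q) u = 1 := rfl

theorem val_one [IsMulCommutative N] {p q : P} (f : PartHom L N p q) : val f 1 = 1 := by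
  show ((Additive.toMul (f 0) : part L N q) : G) = 1
  rw [map_zero]
  rfl

theorem val_comp [IsMulCommutative N] {p q r : P} (g : PartHom L N q r) (f : PartHom L N p q) (u : part L N p) :
    val (g.comp f) u = val g ⟨val f u, val_mem f u⟩ := rfl

/-- The slopes from `p` to `q`. -/
def Slope (B : L) (N : Subgroup G) [IsMulCommutative N] (p q : P) : Set (PartHom L N p q) :=
  {f | ∃ a : G, a • B = B ∧ ∀ u : part L N p, a * u * a⁻¹ = u * val f u}

include hD

theorem IsAxial.isMulCommutative (hA : IsAxial G P B N) : IsMulCommutative N :=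
  ⟨⟨fun a b => Subtype.ext (hA.comm a.2 b.2)⟩⟩

omit [IsDesignAction G P L] in
theorem mem_line_comm {p q r : P} : r ∈ line L p q ↔ r ∈ line L q p :=
  ⟨fun h C h1 h2 => h C h2 h1, fun h C h1 h2 => h C h2 h1⟩

theorem IsAxial.mem_sup_parts (hA : IsAxial G P B N) {p q : P} {g : G}
    (hg : g ∈ part L N p ⊔ part L N q) : ∃ a ∈ part L N p, ∃ b ∈ part L N q, g = a * b := by
  let K : Subgroup G :=
    { carrier := {g | ∃ a ∈ part L N p, ∃ b ∈ part L N q, g = a * b}
      one_mem' := ⟨1, one_mem _, 1, one_mem _, (mul_one 1).symm⟩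
      mul_mem' := by
        rintro _ _ ⟨a, ha, b, hb, rfl⟩ ⟨c, hc, d, hd, rfl⟩
        exact ⟨a * c, mul_mem ha hc, b * d, mul_mem hb hd, by
          rw [mul_assoc, ← mul_assoc b, hA.comm hb.1 hc.1, mul_assoc c, ← mul_assoc]⟩
      inv_mem' := by
        rintro _ ⟨a, ha, b, hb, rfl⟩
        exact ⟨a⁻¹, inv_mem ha, b⁻¹, inv_mem hb, by rw [mul_inv_rev, hA.comm (inv_mem hb.1) (inv_mem ha.1)]⟩ }
  exact (sup_le (fun a ha => ⟨a, ha, 1, one_mem _, (mul_one a).symm⟩)
    (fun b hb => ⟨1, one_mem _, b, hb, (one_mul b).symm⟩) : part L N p ⊔ part L N q ≤ K) hg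

/-- If `r` is not on the line `p q` then `q` is not on the line `p r`. -/
theorem IsAxial.not_mem_line (hA : IsAxial G P B N) {p q r : P} (hp : p ∈ B) (hq : q ∈ B) (hr : r ∈ B)
    (hpq : p ≠ q) (hpr : p ≠ r) (h : r ∉ line L p q) : q ∉ line L p r := by
  intro hq'
  obtain ⟨b, hb, hb1⟩ := hA.part_ne_bot hq
  obtain ⟨a, ha, c, hc, rfl⟩ := hA.mem_sup_parts (hA.part_le_sup hp hr hq hpr (Or.inl hq') hb)
  have hc1 : c ≠ 1 := fun e => hb1 (by
    subst e
    rw [mul_one] at hb ⊢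
    exact hA.part_inf hpq ha hb)
  refine h fun C hpC hqC => (hA.smul_eq_iff hc hc1 C).1 ?_
  have h1 := hb.2 C hqC
  rw [hA.comm ha.1 hc.1, mul_smul, ha.2 C hpC] at h1
  exact h1

theorem IsAxial.ne_B_of_not_mem (hA : IsAxial G P B N) {C : L} {p : P} (hp : p ∈ B) (hpC : p ∉ C) : C ≠ B :=
  fun e => hpC (e.symm ▸ hp)

/-- A shear with axis `C` and centre `q`. -/
theorem IsAxial.exists_shear (hA : IsAxial G P B N) {C : L} (hC : C ≠ B) {q : P} (hqB : q ∈ B) (hqC : q ∈ C)
    {τ σ : G} (hτ : τ ∈ N) (hτC : τ • C ≠ C) (hσ : σ ∈ part L N q) :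
    ∃ a : G, a • B = B ∧ (∀ ρ ∈ N, ρ • C = C → a * ρ * a⁻¹ = ρ) ∧
      (∀ ρ ∈ N, a * ρ * a⁻¹ * ρ⁻¹ ∈ part L N q) ∧ a * τ * a⁻¹ = σ * τ := by
  classical
  obtain ⟨y, hyC, hyB⟩ : ∃ y : P, y ∈ C ∧ y ∉ B := Set.nonempty_of_ncard_ne_zero
    (show {x : P | x ∈ C ∧ x ∉ B}.ncard ≠ 0 by
      rw [ncard_on_diff hC]
      have := hD.lt
      omega)
  obtain ⟨g, rfl⟩ := hA.transitive C
  have hA' := hA.smul g
  set N' := N.map (MulAut.conj g).toMonoidHom
  have haB : ∀ a ∈ part L N' q, a • B = B := fun a ha => ha.2 B hqB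
  have hcomm : ∀ a ∈ part L N' q, ∀ ρ ∈ N, a * ρ * a⁻¹ * ρ⁻¹ ∈ part L N q := by
    intro a ha ρ hρ
    refine ⟨N.mul_mem (hA.conj a (haB a ha) ρ hρ) (N.inv_mem hρ), ?_⟩
    have h1 := conj_mem_centre (inv_mem ha.2) ρ
    rw [hA.le_axis hρ q hqB] at h1
    simpa [mul_assoc] using mul_mem ha.2 h1
  have hfix : ∀ a ∈ part L N' q, ∀ ρ ∈ N, ρ • g • B = g • B → a * ρ * a⁻¹ = ρ := by
    intro a ha ρ hρ hρC
    have h1 : a * ρ * a⁻¹ * ρ⁻¹ ∈ N' := by
      have := mul_mem ha.1 (hA'.conj ρ hρC a⁻¹ (inv_mem ha.1))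
      simpa [mul_assoc] using this
    have h2 := hA.free _ (hcomm a ha ρ hρ).1 y hyB (hA'.le_axis h1 y hyC)
    exact mul_inv_eq_one.1 h2
  have hinj : ∀ a ∈ part L N' q, a * τ * a⁻¹ = τ → a = 1 := by
    intro a ha hc
    refine hA'.free a ha.1 (τ • y) (fun h => hτC (hA.smul_eq hτ hyB hyC h)) ?_
    calc a • τ • y = (a * τ * a⁻¹) • a • y := by rw [smul_smul, smul_smul]; congr 1; group
      _ = τ • y := by rw [hc, hA'.le_axis ha.1 y hyC]
  let f : part L N' q → part L N q := fun a => ⟨a * τ * (a : G)⁻¹ * τ⁻¹, hcomm a a.2 τ hτ⟩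
  have hf : Function.Injective f := by
    intro a a' he
    have he' : (a : G) * τ * (a : G)⁻¹ = a' * τ * (a' : G)⁻¹ := mul_right_cancel (congrArg Subtype.val he)
    have h1 := hinj ((a' : G)⁻¹ * a) (mul_mem (inv_mem a'.2) a.2) (by
      rw [mul_inv_rev, inv_inv]
      calc (a' : G)⁻¹ * a * τ * ((a : G)⁻¹ * a') = (a' : G)⁻¹ * (a * τ * (a : G)⁻¹) * a' := by group
        _ = τ := by rw [he']; group)
    exact Subtype.ext (inv_mul_eq_one.1 h1).symm
  obtain ⟨t, -, hkl, -, -, hpart, -⟩ := hA.params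
  obtain ⟨t', -, hkl', -, -, hpart', -⟩ := hA'.params
  have htt : t' = t := Nat.eq_of_mul_eq_mul_left hD.pos (hkl'.symm.trans hkl)
  have hbij : Function.Bijective f := (Nat.bijective_iff_injective_and_card _).2 ⟨hf, by
    rw [show Nat.card (part L N' q) = t' from hpart' q hqC, show Nat.card (part L N q) = t from hpart q hqB, htt]⟩
  obtain ⟨⟨a, ha⟩, he⟩ := hbij.2 ⟨σ, hσ⟩
  exact ⟨a, haB a ha, hfix a ha, hcomm a ha, mul_inv_eq_iff_eq_mul.1 (congrArg Subtype.val he)⟩

variable [IsMulCommutative N]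

theorem IsAxial.zero_mem_slope (hA : IsAxial G P B N) (p q : P) : (0 : PartHom L N p q) ∈ Slope B N p q :=
  ⟨1, one_smul G B, fun u => by simp [val_zero]⟩

/-- A slope with a given value. -/
theorem IsAxial.exists_slope (hA : IsAxial G P B N) {C : L} {p q : P} (hp : p ∈ B) (hq : q ∈ B)
    (hpC : p ∉ C) (hqC : q ∈ C) {u : part L N p} (hu : u ≠ 1) {v : G} (hv : v ∈ part L N q) :
    ∃ f : PartHom L N p q, ∃ a : G, a • B = B ∧ (∀ w : part L N p, a * w * a⁻¹ = w * val f w) ∧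
      (∀ ρ ∈ N, ρ • C = C → a * ρ * a⁻¹ = ρ) ∧ val f u = v := by
  have hC := hA.ne_B_of_not_mem hp hpC
  have huC : (u : G) • C ≠ C := fun h => hpC ((hA.smul_eq_iff u.2 (fun e => hu (Subtype.ext e)) C).1 h)
  obtain ⟨a, haB, hfix, hcomm, hau⟩ := hA.exists_shear hC hq hqC u.2.1 huC hv
  let f : part L N p →* part L N q := MonoidHom.mk'
    (fun w => ⟨a * w * a⁻¹ * (w : G)⁻¹, hcomm w w.2.1⟩) fun w w' => Subtype.ext (by
      show a * ((w : G) * w') * a⁻¹ * ((w : G) * w')⁻¹ = (a * w * a⁻¹ * (w : G)⁻¹) * (a * w' * a⁻¹ * (w' : G)⁻¹)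
      have h1 := hA.comm (inv_mem w.2.1) (hcomm w' w'.2.1).1
      calc _ = a * w * a⁻¹ * ((a * w' * a⁻¹ * (w' : G)⁻¹) * (w : G)⁻¹) := by group
        _ = _ := by rw [← h1]; group)
  refine ⟨MonoidHom.toAdditive f, a, haB, fun w => ?_, hfix, ?_⟩
  · show a * w * a⁻¹ = (w : G) * (a * w * a⁻¹ * (w : G)⁻¹)
    rw [hA.comm w.2.1 (hcomm w w.2.1).1, inv_mul_cancel_right]
  · show a * u * a⁻¹ * (u : G)⁻¹ = v
    rw [hau, mul_inv_cancel_right]

/-- A slope is determined by one value. -/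
theorem IsAxial.slope_unique (hA : IsAxial G P B N) {p q : P} (hpq : p ≠ q)
    {f g : PartHom L N p q} (hf : f ∈ Slope B N p q) (hg : g ∈ Slope B N p q) {u : part L N p} (hu : u ≠ 1)
    (h : val f u = val g u) : f = g := by
  obtain ⟨a, haB, ha⟩ := hf
  obtain ⟨b, hbB, hb⟩ := hg
  have hmem : ∀ (a : G), a • B = B → ∀ w : part L N p, a * w * a⁻¹ ∈ part L N (a • p) := fun a ha w =>
    ⟨hA.conj a ha w w.2.1, conj_mem_centre w.2.2 a⟩
  have hne : (u : G) * val f u ≠ 1 := fun e => hu (Subtype.ext (hA.part_inf hpq u.2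
    (eq_inv_of_mul_eq_one_left e ▸ inv_mem (val_mem f u))))
  have hz : a • p = b • p := hA.part_eq hne (ha u ▸ hmem a haB u) (by rw [h, ← hb u]; exact hmem b hbB u)
  have hzq : a • p ≠ q := fun e => hu (Subtype.ext (hA.part_inf hpq u.2 (by
    have h1 : (u : G) * val f u ∈ part L N q := e ▸ ha u ▸ hmem a haB u
    simpa using mul_mem h1 (inv_mem (val_mem f u)))))
  refine hom_ext fun w => inv_mul_eq_one.1 (hA.part_inf hzq ?_ (mul_mem (inv_mem (val_mem f w)) (val_mem g w)))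
  have h1 : (w : G) * val f w ∈ part L N (a • p) := ha w ▸ hmem a haB w
  have h2 : (w : G) * val g w ∈ part L N (a • p) := by rw [hz, ← hb w]; exact hmem b hbB w
  simpa [mul_assoc] using mul_mem (inv_mem h1) h2

theorem IsAxial.exists_block (hA : IsAxial G P B N) {p q : P} (hpq : p ≠ q) : ∃ C : L, q ∈ C ∧ p ∉ C :=
  exists_block_sep hpq.symm

/-- Every slope comes from a shear with any suitable axis. -/
theorem IsAxial.slope_shear (hA : IsAxial G P B N) {C : L} {p q : P} (hp : p ∈ B) (hq : q ∈ B) (hpC : p ∉ C)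
    (hqC : q ∈ C) {f : PartHom L N p q} (hf : f ∈ Slope B N p q) :
    ∃ a : G, a • B = B ∧ (∀ w : part L N p, a * w * a⁻¹ = w * val f w) ∧
      (∀ ρ ∈ N, ρ • C = C → a * ρ * a⁻¹ = ρ) := by
  obtain ⟨u, hu, hu1⟩ := hA.part_ne_bot hp
  have hu' : (⟨u, hu⟩ : part L N p) ≠ 1 := fun e => hu1 (congrArg Subtype.val e)
  obtain ⟨g, a, haB, ha, hfix, hgu⟩ := hA.exists_slope hp hq hpC hqC hu' (val_mem f ⟨u, hu⟩)
  obtain rfl := hA.slope_unique (fun e => hpC (by rw [e]; exact hqC)) ⟨a, haB, ha⟩ hf hu' hgu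
  exact ⟨a, haB, ha, hfix⟩

theorem IsAxial.exists_slope' (hA : IsAxial G P B N) {p q : P} (hp : p ∈ B) (hq : q ∈ B) (hpq : p ≠ q)
    {u : part L N p} (hu : u ≠ 1) {v : G} (hv : v ∈ part L N q) : ∃ f ∈ Slope B N p q, val f u = v := by
  obtain ⟨C, hqC, hpC⟩ := hA.exists_block hpq
  obtain ⟨f, a, haB, ha, -, hfu⟩ := hA.exists_slope hp hq hpC hqC hu hv
  exact ⟨f, ⟨a, haB, ha⟩, hfu⟩

theorem IsAxial.slope_add (hA : IsAxial G P B N) {p q : P} (hp : p ∈ B) (hq : q ∈ B) (hpq : p ≠ q)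
    {f g : PartHom L N p q} (hf : f ∈ Slope B N p q) (hg : g ∈ Slope B N p q) : f + g ∈ Slope B N p q := by
  obtain ⟨C, hqC, hpC⟩ := hA.exists_block hpq
  obtain ⟨a, haB, ha, hfix⟩ := hA.slope_shear hp hq hpC hqC hf
  obtain ⟨b, hbB, hb⟩ := hg
  refine ⟨a * b, by rw [mul_smul, hbB, haB], fun u => ?_⟩
  have h1 : a * val g u * a⁻¹ = val g u := hfix _ (val_mem g u).1 ((val_mem g u).2 C hqC)
  calc a * b * u * (a * b)⁻¹ = a * (b * u * b⁻¹) * a⁻¹ := by group
    _ = (a * u * a⁻¹) * (a * val g u * a⁻¹) := by rw [hb u]; group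
    _ = u * val (f + g) u := by rw [ha u, h1, val_add, mul_assoc]

/-- Nonzero slopes are invertible, with slopes as inverses. -/
theorem IsAxial.slope_inv (hA : IsAxial G P B N) {p q : P} (hp : p ∈ B) (hq : q ∈ B) (hpq : p ≠ q)
    {f : PartHom L N p q} (hf : f ∈ Slope B N p q) (hf0 : f ≠ 0) :
    ∃ g ∈ Slope B N q p, g.comp f = AddMonoidHom.id _ ∧ f.comp g = AddMonoidHom.id _ := by
  obtain ⟨u, hu⟩ : ∃ u : part L N p, val f u ≠ 1 := by
    by_contra h
    push Not at h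
    exact hf0 (hom_ext fun u => (h u).trans (val_zero u).symm)
  have hu1 : u ≠ 1 := fun e => hu (e ▸ val_one f)
  obtain ⟨g, hg, hgv⟩ := hA.exists_slope' hq hp hpq.symm
    (u := ⟨val f u, val_mem f u⟩) (fun e => hu (congrArg Subtype.val e)) u.2
  obtain ⟨a, haB, ha⟩ := hf
  obtain ⟨b, hbB, hb⟩ := id hg
  have hmem : ∀ w : part L N p, (w : G) * val f w ∈ part L N (a • p) := fun w =>
    ha w ▸ ⟨hA.conj a haB w w.2.1, conj_mem_centre w.2.2 a⟩
  have hmem' : ∀ w : part L N q, (w : G) * val g w ∈ part L N (b • q) := fun w =>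
    hb w ▸ ⟨hA.conj b hbB w w.2.1, conj_mem_centre w.2.2 b⟩
  have hne : (u : G) * val f u ≠ 1 := fun e => hu1 (Subtype.ext (hA.part_inf hpq u.2
    (eq_inv_of_mul_eq_one_left e ▸ inv_mem (val_mem f u))))
  have hz : a • p = b • q := hA.part_eq hne (hmem u) (by
    have := hmem' ⟨val f u, val_mem f u⟩
    rwa [hgv, show val f u * (u : G) = u * val f u from hA.comm (val_mem f u).1 u.2.1] at this)
  have hzp : a • p ≠ p := fun e => hu (hA.part_inf hpq (by
    have h1 : (u : G) * val f u ∈ part L N p := by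
      have h0 := hmem u
      rwa [e] at h0
    simpa using mul_mem (inv_mem u.2) h1) (val_mem f u))
  have hgf : g.comp f = AddMonoidHom.id _ := by
    refine hom_ext fun w => (inv_mul_eq_one.1 (hA.part_inf hzp ?_ (mul_mem (inv_mem w.2) (val_mem _ w)))).symm
    have h1 := hmem w
    have h2 := hmem' ⟨val f w, val_mem f w⟩
    rw [← hz] at h2
    have h3 := mul_mem (inv_mem h1) h2
    rw [val_comp]
    rw [hA.comm w.2.1 (val_mem f w).1] at h3
    simpa [mul_assoc] using h3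
  refine ⟨g, hg, hgf, ?_⟩
  have hfinj : Function.Injective f := fun x y e => by
    rw [← AddMonoidHom.id_apply _ x, ← hgf, AddMonoidHom.comp_apply, e, ← AddMonoidHom.comp_apply, hgf,
      AddMonoidHom.id_apply]
  obtain ⟨t, -, -, -, -, hpart, -⟩ := hA.params
  have hsurj : Function.Surjective f := ((Nat.bijective_iff_injective_and_card _).2 ⟨hfinj, by
    rw [show Nat.card (Additive (part L N p)) = t from hpart p hp,
      show Nat.card (Additive (part L N q)) = t from hpart q hq]⟩).2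
  refine AddMonoidHom.ext fun y => ?_
  obtain ⟨x, rfl⟩ := hsurj y
  rw [AddMonoidHom.comp_apply, ← AddMonoidHom.comp_apply g, hgf, AddMonoidHom.id_apply, AddMonoidHom.id_apply]

/-- Slopes between three independent parts compose. -/
theorem IsAxial.slope_comp (hA : IsAxial G P B N) {p q r : P} (hp : p ∈ B) (hq : q ∈ B) (hr : r ∈ B)
    (hpq : p ≠ q) (hpr : p ≠ r) (hqr : q ≠ r) (h : p ∉ line L r q) {f : PartHom L N p q} {g : PartHom L N q r}
    (hf : f ∈ Slope B N p q) (hg : g ∈ Slope B N q r) : g.comp f ∈ Slope B N p r := by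
  have h' : q ∉ line L r p := hA.not_mem_line hr hq hp hqr.symm hpr.symm h
  simp only [line, Set.mem_ofPred_eq, not_forall] at h h'
  obtain ⟨C, hrC, hqC, hpC⟩ := h
  obtain ⟨D, hrD, hpD, hqD⟩ := h'
  obtain ⟨a, haB, ha, hafix⟩ := hA.slope_shear hp hq hpC hqC hf
  obtain ⟨b, hbB, hb, hbfix⟩ := hA.slope_shear hq hr hqD hrD hg
  refine ⟨b * a * b⁻¹ * a⁻¹, by
    rw [mul_smul, mul_smul, mul_smul, inv_smul_eq_iff.2 haB.symm, inv_smul_eq_iff.2 hbB.symm, haB, hbB],
    fun u => ?_⟩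
  rw [val_comp]
  set v : part L N q := ⟨val f u, val_mem f u⟩
  set w := val g v
  have hw := val_mem g v
  have hwC : w • C = C := hw.2 C hrC
  have hwD : w • D = D := hw.2 D hrD
  have huD : (u : G) • D = D := u.2.2 D hpD
  have hvC : (v : G) • C = C := v.2.2 C hqC
  have hav : a * (v : G) * a⁻¹ = v := hafix _ v.2.1 hvC
  have haw : a * w * a⁻¹ = w := hafix _ hw.1 hwC
  have hbu : b * (u : G) * b⁻¹ = u := hbfix _ u.2.1 huD
  have hbw : b * w * b⁻¹ = w := hbfix _ hw.1 hwD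
  have ha' : a * u * a⁻¹ = (u : G) * (v : G) := ha u
  have hb' : b * v * b⁻¹ = (v : G) * w := hb v
  have e1 : a⁻¹ * u * a = u * (v : G)⁻¹ := by
    have e : a * (u * (v : G)⁻¹) * a⁻¹ = u := by
      calc _ = (a * u * a⁻¹) * (a * v * a⁻¹)⁻¹ := by group
        _ = u := by rw [ha', hav]; group
    conv_lhs => rw [← e]
    group
  have e2 : b⁻¹ * (u * (v : G)⁻¹) * b = u * (w * (v : G)⁻¹) := by
    have e : b * (u * (w * (v : G)⁻¹)) * b⁻¹ = u * (v : G)⁻¹ := by
      calc _ = (b * u * b⁻¹) * ((b * w * b⁻¹) * (b * v * b⁻¹)⁻¹) := by group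
        _ = _ := by rw [hbu, hbw, hb']; group
    conv_lhs => rw [← e]
    group
  calc b * a * b⁻¹ * a⁻¹ * u * (b * a * b⁻¹ * a⁻¹)⁻¹
      = b * (a * (b⁻¹ * (a⁻¹ * u * a) * b) * a⁻¹) * b⁻¹ := by group
    _ = b * ((a * u * a⁻¹) * ((a * w * a⁻¹) * (a * (v : G) * a⁻¹)⁻¹)) * b⁻¹ := by rw [e1, e2]; group
    _ = b * (u * (v * (w * (v : G)⁻¹))) * b⁻¹ := by rw [ha', haw, hav]; group
    _ = b * (u * w) * b⁻¹ := by rw [← mul_assoc (v : G), hA.comm v.2.1 hw.1, mul_inv_cancel_right]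
    _ = (b * u * b⁻¹) * (b * w * b⁻¹) := by group
    _ = u * w := by rw [hbu, hbw]

end CfsgLib.DesignAxial
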