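import Cfsg.Agent.Lib.DesignAxial.Centre
import Cfsg.Agent.Lib.OstromWagner.PSubgroups

/-!
# The axial group is transitive off its axis
-/

set_option autoImplicit false
set_option linter.unusedSectionVars false

namespace CfsgLib.DesignAxial

open MulAction

variable {G P L : Type*} [Group G] [MulAction G P] [MulAction G L] [Membership P L] [IsDesignAction G P L]
  {k l : ℕ} [Finite P] [Finite L] [Finite G] [hD : IsSymDesign P L k l] {B : L} {N : Subgroup G}

include hD

theorem IsAxial.centre_eq (hA : IsAxial G P B N) {g : G} (hg : g ∈ N) (hg1 : g ≠ 1) {p q : P}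
    (hp : g ∈ centreGroup G L p) (hq : g ∈ centreGroup G L q) : p = q :=
  centre_unique hp hq (hA.ncard_fixed hg hg1).le

theorem IsAxial.card_centre_eq (hA : IsAxial G P B N) {p q : P} (hp : p ∈ B) (hq : q ∈ B) :
    Nat.card (N ⊓ centreGroup G L p : Subgroup G) = Nat.card (N ⊓ centreGroup G L q : Subgroup G) := by
  obtain ⟨a, haB, haq⟩ := hA.trans_on p q hp hq
  have hcc : ∀ (b : G) (x : P), ∀ g ∈ centreGroup G L x, b * g * b⁻¹ ∈ centreGroup G L (b • x) := by
    intro b x g hg C hC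
    have hC' : x ∈ b⁻¹ • C := by rwa [← IsDesignAction.smul_mem_smul b, smul_inv_smul]
    rw [mul_smul, mul_smul, hg _ hC', smul_inv_smul]
  refine Nat.card_congr
    { toFun := fun g => ⟨a * g.1 * a⁻¹, hA.conj a haB _ g.2.1, haq ▸ hcc a p _ g.2.2⟩
      invFun := fun g => ⟨a⁻¹ * g.1 * a, by
        simpa using hA.conj a⁻¹ (inv_smul_eq_iff.2 haB.symm) _ g.2.1, by
        simpa [← haq] using hcc a⁻¹ q _ g.2.2⟩
      left_inv := fun g => Subtype.ext (by simp [mul_assoc])
      right_inv := fun g => Subtype.ext (by simp [mul_assoc]) }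

theorem IsAxial.card_fixer_eq (hA : IsAxial G P B N) {C D : L} (hC : C ≠ B) (hD' : D ≠ B) :
    Nat.card (N ⊓ stabilizer G C : Subgroup G) = Nat.card (N ⊓ stabilizer G D : Subgroup G) := by
  obtain ⟨a, haB, haD⟩ := hA.trans_blocks C D hC hD'
  refine Nat.card_congr
    { toFun := fun g => ⟨a * g.1 * a⁻¹, hA.conj a haB _ g.2.1, mem_stabilizer_iff.2 (by
        rw [← haD, mul_smul, mul_smul, inv_smul_smul, mem_stabilizer_iff.1 g.2.2])⟩
      invFun := fun g => ⟨a⁻¹ * g.1 * a, by
        simpa using hA.conj a⁻¹ (inv_smul_eq_iff.2 haB.symm) _ g.2.1, mem_stabilizer_iff.2 (by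
        rw [mul_smul, mul_smul, haD, mem_stabilizer_iff.1 g.2.2, ← haD, inv_smul_smul])⟩
      left_inv := fun g => Subtype.ext (by simp [mul_assoc])
      right_inv := fun g => Subtype.ext (by simp [mul_assoc]) }

/-- The nontrivial elements are partitioned by their centres. -/
theorem IsAxial.card_eq_centres (hA : IsAxial G P B N) {p₀ : P} (hp₀ : p₀ ∈ B) :
    Nat.card N = k * (Nat.card (N ⊓ centreGroup G L p₀ : Subgroup G) - 1) + 1 := by
  classical
  cases nonempty_fintype G
  cases nonempty_fintype P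
  set h := Nat.card (N ⊓ centreGroup G L p₀ : Subgroup G)
  have hdc := double_count (fun (g : {g : N // g ≠ 1}) (p : {p : P // p ∈ B}) => ((g : N) : G) ∈ centreGroup G L (p : P))
  have h1 : ∀ g : {g : N // g ≠ 1}, {p : {p : P // p ∈ B} | ((g : N) : G) ∈ centreGroup G L (p : P)}.ncard = 1 := by
    rintro ⟨⟨g, hg⟩, hg1⟩
    have hne : g ≠ 1 := fun e => hg1 (Subtype.ext e)
    obtain ⟨p, hpB, hp, -⟩ := hA.exists_centre hg hne
    rw [Set.ncard_eq_one]
    exact ⟨⟨p, hpB⟩, Set.ext fun q => ⟨fun hq => Subtype.ext (hA.centre_eq hg hne hq hp), fun hq => hq ▸ hp⟩⟩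
  have h2 : ∀ p : {p : P // p ∈ B}, {g : {g : N // g ≠ 1} | ((g : N) : G) ∈ centreGroup G L (p : P)}.ncard = h - 1 := by
    rintro ⟨p, hp⟩
    have hinj : Function.Injective fun g : {g : N // g ≠ 1} => ((g : N) : G) :=
      fun a b e => Subtype.ext (Subtype.ext e)
    rw [← Set.ncard_image_of_injective _ hinj, show h = ((N ⊓ centreGroup G L p : Subgroup G) : Set G).ncard from
      (hA.card_centre_eq hp₀ hp).trans (Nat.card_coe_set_eq _),
      ← Set.ncard_sdiff_singleton_of_mem (one_mem (N ⊓ centreGroup G L p))]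
    congr 1
    ext g
    constructor
    · rintro ⟨a, ha, rfl⟩
      exact ⟨⟨a.1.2, ha⟩, fun e => a.2 (Subtype.ext e)⟩
    · rintro ⟨⟨hgN, hgc⟩, hg1⟩
      exact ⟨⟨⟨g, hgN⟩, fun e => hg1 (congrArg Subtype.val e)⟩, hgc, rfl⟩
  simp only [h1, h2, Finset.sum_const, Finset.card_univ, smul_eq_mul, mul_one] at hdc
  rw [show Fintype.card {p : P // p ∈ B} = k by
    rw [← Nat.card_eq_fintype_card]
    exact (Nat.card_coe_set_eq _).trans (IsSymDesign.on B), Fintype.card_subtype_compl, Fintype.card_subtype_eq,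
    ← Nat.card_eq_fintype_card] at hdc
  have : 0 < Nat.card N := Nat.card_pos
  omega

/-- The parameters of an axial group. -/
theorem IsAxial.params (hA : IsAxial G P B N) :
    ∃ t, 2 ≤ t ∧ k - 1 = l * t ∧ Nat.card N = Nat.card P - k ∧ Nat.card N = k * (t - 1) + 1 ∧
      (∀ p ∈ B, Nat.card (N ⊓ centreGroup G L p : Subgroup G) = t) ∧
      ∀ C : L, C ≠ B → Nat.card (N ⊓ stabilizer G C : Subgroup G) * t = Nat.card N := by
  classical
  cases nonempty_fintype G
  cases nonempty_fintype P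
  cases nonempty_fintype L
  have hk := hD.lt
  have hl := hD.pos
  have hv := hD.big
  obtain ⟨p₀, hp₀⟩ : ∃ p : P, p ∈ B := Set.nonempty_of_ncard_ne_zero
    (show {x : P | x ∈ B}.ncard ≠ 0 by rw [IsSymDesign.on]; omega)
  obtain ⟨C₀, hC₀⟩ : ∃ C : L, C ≠ B := by
    obtain ⟨x, hx⟩ := exists_off (P := P) B
    obtain ⟨C, hC, -⟩ := exists_block_sep (L := L) (fun e : x = p₀ => hx (e ▸ hp₀))
    exact ⟨C, fun e => hx (e ▸ hC)⟩
  set s := Nat.card N with hs
  set h := Nat.card (N ⊓ centreGroup G L p₀ : Subgroup G) with hh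
  set u := Nat.card (N ⊓ stabilizer G C₀ : Subgroup G) with hu
  have e1 : s = k * (h - 1) + 1 := hA.card_eq_centres hp₀
  obtain ⟨t, ht⟩ : u ∣ s := Subgroup.card_dvd_of_le inf_le_left
  have hstab : ∀ C : L, Nat.card (stabilizer N C) = Nat.card (N ⊓ stabilizer G C : Subgroup G) := fun C =>
    Nat.card_congr
      { toFun := fun g => ⟨g.1.1, g.1.2, mem_stabilizer_iff.2 (mem_stabilizer_iff.1 g.2)⟩
        invFun := fun g => ⟨⟨g.1, g.2.1⟩, mem_stabilizer_iff.2 (mem_stabilizer_iff.1 g.2.2)⟩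
        left_inv := fun g => rfl
        right_inv := fun g => rfl }
  have horb : ∀ C : L, C ≠ B → (orbit N C).ncard = t := by
    intro C hC
    have hpos : 0 < u := Nat.card_pos
    refine Nat.eq_of_mul_eq_mul_right hpos ?_
    rw [mul_comm t, ← ht, hu, hA.card_fixer_eq hC₀ hC, ← hstab, ← Nat.card_coe_set_eq,
      Nat.card_congr (orbitEquivQuotientStabilizer N C), ← Subgroup.card_eq_card_quotient_mul_card_subgroup]
  have ht2 : 2 ≤ t := by
    obtain ⟨g, hg, hgC⟩ := hA.exists_ne_smul hC₀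
    rw [← horb C₀ hC₀]
    have hm : g • C₀ ∈ orbit N C₀ := mem_orbit C₀ (⟨g, hg⟩ : N)
    exact (Set.one_lt_ncard (Set.toFinite _)).2 ⟨C₀, mem_orbit_self _, g • C₀, hm, Ne.symm hgC⟩
  have htk : t ∣ k - 1 := by
    have he : {C : L | p₀ ∈ C ∧ C ≠ B} = {C : L | p₀ ∈ C} \ {B} := rfl
    rw [show k - 1 = {C : L | p₀ ∈ C ∧ C ≠ B}.ncard by
      rw [he, Set.ncard_sdiff_singleton_of_mem (show B ∈ {C : L | p₀ ∈ C} from hp₀), IsSymDesign.through]]
    refine CfsgLib.OstromWagner.dvd_ncard_of_orbits N {C : L | p₀ ∈ C ∧ C ≠ B} (fun g hg C hC => ⟨?_, fun e => hC.2 ?_⟩)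
      (fun C hC => (horb C hC.2).symm.dvd)
    · rw [← hA.le_axis hg p₀ hp₀]
      exact (IsDesignAction.smul_mem_smul g p₀ C).2 hC.1
    · exact MulAction.injective g (e.trans (smul_block_of_fix (hA.le_axis hg)).symm)
  have hth : t ∣ h := by
    have h1 : t ∣ s := Dvd.intro_left _ ht.symm
    rw [show s = k * (h - 1) + 1 from e1] at h1
    obtain ⟨c, hc⟩ := htk
    have hh1 : 1 ≤ h := Nat.card_pos
    have h2 : k * (h - 1) + 1 = t * (c * (h - 1)) + h := by
      rw [show k = t * c + 1 by omega]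
      obtain ⟨h', hh'⟩ : ∃ h', h = h' + 1 := ⟨h - 1, by omega⟩
      rw [hh', Nat.add_sub_cancel]
      ring
    rw [h2] at h1
    exact (Nat.dvd_add_right (dvd_mul_right t _)).1 h1
  obtain ⟨m, hm⟩ : s ∣ Nat.card P - k := by
    rw [← ncard_off (P := P) B]
    refine CfsgLib.OstromWagner.card_dvd_ncard_of_free N _ (fun g hg x hx hgx => hx ?_) (fun g hg x hx => hA.free g hg x hx)
    exact (smul_mem_iff_of_fix (smul_block_of_fix (hA.le_axis hg)) x).1 hgx
  -- double counting of fixed blocks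
  have e2 : Nat.card P + (s - 1) * k = s + (Nat.card P - 1) * u := by
    have hdc := double_count (fun (g : N) (C : L) => (g : G) • C = C)
    have h1 : ∀ g : N, {C : L | (g : G) • C = C}.ncard = if g = 1 then Nat.card P else k := by
      intro g
      split_ifs with hg
      · subst hg
        rw [hD.card_eq]
        simp [Set.ncard_univ]
      · exact hA.ncard_fixed g.2 fun e => hg (Subtype.ext e)
    have h2 : ∀ C : L, {g : N | (g : G) • C = C}.ncard = if C = B then s else u := by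
      intro C
      split_ifs with hC
      · subst hC
        rw [show {g : N | (g : G) • C = C} = Set.univ from Set.eq_univ_of_forall fun g =>
          smul_block_of_fix (hA.le_axis g.2), Set.ncard_univ]
      · rw [hu, hA.card_fixer_eq hC₀ hC, ← hstab, ← Nat.card_coe_set_eq]
        rfl
    simp only [h1, h2] at hdc
    rw [← Finset.add_sum_erase _ _ (Finset.mem_univ (1 : N)), ← Finset.add_sum_erase _ _ (Finset.mem_univ B),
      if_pos rfl, if_pos rfl, Finset.sum_congr rfl (g := fun _ => k) (fun g hg => if_neg (Finset.ne_of_mem_erase hg)),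
      Finset.sum_congr rfl (g := fun _ => u) (fun C hC => if_neg (Finset.ne_of_mem_erase hC)), Finset.sum_const,
      Finset.sum_const, Finset.card_erase_of_mem (Finset.mem_univ _), Finset.card_erase_of_mem (Finset.mem_univ _),
      Finset.card_univ, Finset.card_univ, ← Nat.card_eq_fintype_card, ← Nat.card_eq_fintype_card,
      ← IsSymDesign.card_eq (P := P) (L := L)] at hdc
    simpa [smul_eq_mul, hs] using hdc
  have hs1 : 1 ≤ s := Nat.card_pos
  have hu1 : 1 ≤ u := Nat.card_pos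
  have hh1 : 1 ≤ h := Nat.card_pos
  have hm1 : 1 ≤ m := Nat.one_le_iff_ne_zero.2 fun e => by rw [e, mul_zero] at hm; omega
  have hhle : t ≤ h := Nat.le_of_dvd hh1 hth
  zify [hs1, hu1, hh1, (show 1 ≤ Nat.card P by omega), (show k ≤ Nat.card P by omega)] at e1 e2 hm
  have hsz : (s : ℤ) = u * t := by exact_mod_cast ht
  have hu0 : (0 : ℤ) < u := by exact_mod_cast hu1
  have key : (m : ℤ) * (s - t) = (t - 1) * ((k : ℤ) - 1) := by
    refine mul_left_cancel₀ hu0.ne' ?_
    linear_combination -e2 + (1 - (u : ℤ)) * hm + ((m : ℤ) + k - 1) * hsz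
  have htz : (t : ℤ) ≤ h := by exact_mod_cast hhle
  have ht2z : (2 : ℤ) ≤ t := by exact_mod_cast ht2
  have hkz : (2 : ℤ) ≤ k := by exact_mod_cast (show 2 ≤ k by omega)
  have hm1z : (1 : ℤ) ≤ m := by exact_mod_cast hm1
  have e1' : (s : ℤ) = k * ((h : ℤ) - 1) + 1 := e1
  have hpos : (0 : ℤ) < ((k : ℤ) - 1) * ((t : ℤ) - 1) := mul_pos (by omega) (by omega)
  have hge : ((k : ℤ) - 1) * ((t : ℤ) - 1) ≤ s - t := by nlinarith [mul_nonneg (show (0 : ℤ) ≤ k by omega) (sub_nonneg.2 htz)]
  have hmone : (m : ℤ) = 1 := by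
    by_contra hne
    have : (2 : ℤ) ≤ m := by omega
    nlinarith [mul_le_mul this hge hpos.le (show (0 : ℤ) ≤ m by omega)]
  have hht : h = t := by
    rw [hmone, one_mul, e1'] at key
    have : (k : ℤ) * h = k * t := by linear_combination key
    exact_mod_cast mul_left_cancel₀ (show (k : ℤ) ≠ 0 by omega) this
  have hPN : Nat.card N = Nat.card P - k := by
    have : m = 1 := by exact_mod_cast hmone
    zify [(show k ≤ Nat.card P by omega)]
    rw [hm, hmone, mul_one]
  refine ⟨t, ht2, ?_, hPN, by rw [← hht]; exact hA.card_eq_centres hp₀, fun p hp => hht ▸ (hA.card_centre_eq hp hp₀), fun C hC => ?_⟩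
  · have hc := hD.count
    have h1 : Nat.card P - 1 = k * t := by
      zify [(show 1 ≤ Nat.card P by omega)]
      rw [hht] at e1
      rw [hmone, mul_one] at hm
      linear_combination hm + e1
    rw [h1, ← mul_assoc, mul_comm l k, mul_assoc] at hc
    exact (Nat.eq_of_mul_eq_mul_left (by omega) hc).symm
  · rw [← hA.card_fixer_eq hC₀ hC]
    exact ht.symm

end CfsgLib.DesignAxial
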