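import Cfsg.Agent.Lib.DesignAxial.Transitive

/-!
# The translation group

An axial group is elementary abelian, partitioned by its centres, and any two parts span a union
of parts.
-/

set_option autoImplicit false
set_option linter.unusedSectionVars false

namespace CfsgLib.DesignAxial

open MulAction

variable {G P L : Type*} [Group G] [MulAction G P] [MulAction G L] [Membership P L] [IsDesignAction G P L]
  {k l : ℕ} [Finite P] [Finite L] [Finite G] [hD : IsSymDesign P L k l] {B : L} {N : Subgroup G}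

omit [Finite P] [Finite L] [Finite G] in
theorem conj_mem_centre {g : G} {p : P} (hg : g ∈ centreGroup G L p) (a : G) :
    a * g * a⁻¹ ∈ centreGroup G L (a • p) := by
  intro C hC
  have hC' : p ∈ a⁻¹ • C := by rwa [← IsDesignAction.smul_mem_smul a, smul_inv_smul]
  rw [mul_smul, mul_smul, hg _ hC', smul_inv_smul]

/-- The part of `N` with centre `p`. -/
abbrev part (L : Type*) [MulAction G L] [Membership P L] (N : Subgroup G) (p : P) : Subgroup G :=
  N ⊓ centreGroup G L p

/-- The points of `B` lying in every block through `p` and `q`. -/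
def line (L : Type*) [Membership P L] (p q : P) : Set P := {r | ∀ C : L, p ∈ C → q ∈ C → r ∈ C}

include hD

theorem IsAxial.part_normal (hA : IsAxial G P B N) {p : P} (hp : p ∈ B) {g a : G} (hg : g ∈ N)
    (ha : a ∈ part L N p) : g * a * g⁻¹ ∈ part L N p :=
  ⟨N.mul_mem (N.mul_mem hg ha.1) (N.inv_mem hg), by
    simpa [hA.le_axis hg p hp] using conj_mem_centre ha.2 g⟩

theorem IsAxial.exists_part (hA : IsAxial G P B N) {g : G} (hg : g ∈ N) :
    ∃ p : P, p ∈ B ∧ g ∈ part L N p := by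
  by_cases hg1 : g = 1
  · obtain ⟨p, hp⟩ : ∃ p : P, p ∈ B := Set.nonempty_of_ncard_ne_zero
      (show {x : P | x ∈ B}.ncard ≠ 0 by rw [IsSymDesign.on]; have := hD.lt; omega)
    exact ⟨p, hp, hg1 ▸ one_mem _⟩
  obtain ⟨p, hp, hc, -⟩ := hA.exists_centre hg hg1
  exact ⟨p, hp, hg, hc⟩

theorem IsAxial.part_inf (hA : IsAxial G P B N) {p q : P} (hpq : p ≠ q) {g : G} (hp : g ∈ part L N p)
    (hq : g ∈ part L N q) : g = 1 :=
  by_contra fun h => hpq (hA.centre_eq hp.1 h hp.2 hq.2)

theorem IsAxial.part_eq (hA : IsAxial G P B N) {p q : P} {g : G} (hg : g ≠ 1) (hp : g ∈ part L N p)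
    (hq : g ∈ part L N q) : p = q :=
  hA.centre_eq hp.1 hg hp.2 hq.2

theorem IsAxial.part_ne_bot (hA : IsAxial G P B N) {p : P} (hp : p ∈ B) : ∃ a ∈ part L N p, a ≠ 1 := by
  obtain ⟨t, ht, -, -, -, hpart, -⟩ := hA.params
  by_contra h
  push Not at h
  have := hpart p hp
  rw [show N ⊓ centreGroup G L p = ⊥ from (Subgroup.eq_bot_iff_forall _).2 h, Subgroup.card_bot] at this
  omega

theorem IsAxial.exists_on_ne (hA : IsAxial G P B N) (p : P) : ∃ q : P, q ∈ B ∧ q ≠ p := by
  obtain ⟨q, hq, hqp⟩ := Set.exists_ne_of_one_lt_ncard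
    (show 1 < {x : P | x ∈ B}.ncard by rw [IsSymDesign.on]; have := hD.lt; have := hD.pos; omega) p
  exact ⟨q, hq, hqp⟩

theorem IsAxial.comm_parts (hA : IsAxial G P B N) {p q : P} (hp : p ∈ B) (hq : q ∈ B) (hpq : p ≠ q)
    {a b : G} (ha : a ∈ part L N p) (hb : b ∈ part L N q) : a * b = b * a := by
  have h1 : a * b * a⁻¹ * b⁻¹ ∈ part L N q := mul_mem (hA.part_normal hq ha.1 hb) (inv_mem hb)
  have h2 : a * (b * a⁻¹ * b⁻¹) ∈ part L N p := mul_mem ha (hA.part_normal hp hb.1 (inv_mem ha))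
  have h3 := hA.part_inf hpq (by simpa [mul_assoc] using h2) h1
  rw [mul_inv_eq_one, mul_inv_eq_iff_eq_mul] at h3
  exact h3

/-- An axial group is abelian. -/
theorem IsAxial.comm (hA : IsAxial G P B N) {a b : G} (ha : a ∈ N) (hb : b ∈ N) : a * b = b * a := by
  obtain ⟨p, hp, hap⟩ := hA.exists_part ha
  obtain ⟨q, hq, hbq⟩ := hA.exists_part hb
  by_cases hpq : p = q
  · subst hpq
    obtain ⟨z, hz, hzp⟩ := hA.exists_on_ne p
    obtain ⟨c, hc, hc1⟩ := hA.part_ne_bot hz
    obtain ⟨w, hw, hbc⟩ := hA.exists_part (mul_mem hb hc.1)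
    have hwp : w ≠ p := fun e => hc1 (hA.part_inf hzp hc (by
      subst e
      simpa using mul_mem (inv_mem hbq) hbc))
    have h1 := hA.comm_parts hp hw hwp.symm hap hbc
    have h2 := hA.comm_parts hp hz hzp.symm hap hc
    have : a * b * c = b * a * c := by rw [mul_assoc, h1, mul_assoc, ← h2, mul_assoc]
    exact mul_right_cancel this
  · exact hA.comm_parts hp hq hpq hap hbq

/-- An axial group has prime exponent. -/
theorem IsAxial.exists_exponent (hA : IsAxial G P B N) : ∃ r : ℕ, r.Prime ∧ ∀ g ∈ N, g ^ r = 1 := by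
  obtain ⟨r, hr, hdvd⟩ := Nat.exists_prime_and_dvd (show Nat.card N ≠ 1 from fun h =>
    hA.ne_bot (Subgroup.eq_bot_of_card_eq N h))
  haveI := Fact.mk hr
  obtain ⟨g, hg⟩ := exists_prime_orderOf_dvd_card' r hdvd
  have hg1 : (g : G) ≠ 1 := fun h => hr.one_lt.ne' (by rw [← hg, show g = 1 from Subtype.ext h, orderOf_one])
  have hgr : (g : G) ^ r = 1 := by rw [← Subgroup.coe_pow, ← hg, pow_orderOf_eq_one, Subgroup.coe_one]
  obtain ⟨p, hp, hgp⟩ := hA.exists_part g.2
  have key : ∀ {p : P} {a : G}, p ∈ B → a ∈ part L N p → a ≠ 1 → a ^ r = 1 →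
      ∀ {q : P} {b : G}, q ∈ B → b ∈ part L N q → q ≠ p → b ^ r = 1 := by
    intro p a hp ha ha1 har q b hq hb hqp
    obtain ⟨w, hw, hab⟩ := hA.exists_part (mul_mem ha.1 hb.1)
    have hwq : w ≠ q := fun e => ha1 (hA.part_inf hqp.symm ha (by
      subst e
      simpa using mul_mem hab (inv_mem hb)))
    have h1 := pow_mem hab r
    rw [(show Commute a b from hA.comm ha.1 hb.1).mul_pow, har, one_mul] at h1
    exact hA.part_inf hwq h1 (pow_mem hb r)
  refine ⟨r, hr, fun b hb => ?_⟩
  obtain ⟨q, hq, hbq⟩ := hA.exists_part hb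
  by_cases hqp : q = p
  · obtain ⟨z, hz, hzp⟩ := hA.exists_on_ne p
    obtain ⟨c, hc, hc1⟩ := hA.part_ne_bot hz
    exact key hz hc hc1 (key hp hgp hg1 hgr hz hc hzp) hq hbq (hqp ▸ hzp.symm)
  · exact key hp hgp hg1 hgr hq hbq hqp

theorem IsAxial.smul_eq_iff (hA : IsAxial G P B N) {g : G} {p : P} (hg : g ∈ part L N p) (hg1 : g ≠ 1)
    (C : L) : g • C = C ↔ p ∈ C := by
  refine ⟨fun h => ?_, hg.2 C⟩
  obtain ⟨q, -, hq, hall⟩ := hA.exists_centre hg.1 hg1
  exact hA.centre_eq hg.1 hg1 hq hg.2 ▸ hall C h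

theorem line_ncard_mul {p q : P} (hpq : p ≠ q) : l + (line L p q).ncard * (k - l) ≤ Nat.card P := by
  classical
  cases nonempty_fintype P
  cases nonempty_fintype L
  set S := (line L p q).toFinset with hS
  set J : Finset L := Finset.univ.filter fun C => p ∈ C ∧ q ∈ C with hJ
  let F : P → Finset L := fun z => Finset.univ.filter fun C => z ∈ C ∧ C ∉ J
  have hJcard : J.card = l := by
    rw [← IsSymDesign.join (L := L) p q hpq, Set.ncard_eq_toFinset_card', Set.toFinset_ofPred]
  have hthrough : ∀ z ∈ S, (F z).card = k - l := by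
    intro z hz
    have hz' : z ∈ line L p q := Set.mem_toFinset.1 hz
    have hsub : J ⊆ Finset.univ.filter fun C : L => z ∈ C := fun C hC => by
      simp only [hJ, Finset.mem_filter, Finset.mem_univ, true_and] at hC ⊢
      exact hz' C hC.1 hC.2
    rw [show F z = (Finset.univ.filter fun C : L => z ∈ C) \ J from by ext C; simp [F],
      Finset.card_sdiff_of_subset hsub, hJcard, ← IsSymDesign.through (L := L) z, Set.ncard_eq_toFinset_card',
      Set.toFinset_ofPred]
  have hdisj : (S : Set P).PairwiseDisjoint F := by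
    intro z hz w hw hzw
    rw [Function.onFun, Finset.disjoint_left]
    intro C hC1 hC2
    simp only [F, Finset.mem_filter, Finset.mem_univ, true_and] at hC1 hC2
    have heq : {C : L | p ∈ C ∧ q ∈ C} = {C : L | z ∈ C ∧ w ∈ C} :=
      Set.eq_of_subset_of_ncard_le (fun D hD => ⟨(Set.mem_toFinset.1 hz) D hD.1 hD.2, (Set.mem_toFinset.1 hw) D hD.1 hD.2⟩)
        (by rw [IsSymDesign.join z w hzw, IsSymDesign.join p q hpq]) (Set.toFinite _)
    exact hC1.2 (by
      simp only [hJ, Finset.mem_filter, Finset.mem_univ, true_and]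
      exact heq.symm.subset ⟨hC1.1, hC2.1⟩)
  have hdisj2 : Disjoint J (S.biUnion F) := Finset.disjoint_left.2 fun C hC hC' => by
    obtain ⟨z, -, hz⟩ := Finset.mem_biUnion.1 hC'
    exact (Finset.mem_filter.1 hz).2.2 hC
  have h := Finset.card_le_univ (J ∪ S.biUnion F)
  rw [Finset.card_union_of_disjoint hdisj2, Finset.card_biUnion hdisj, Finset.sum_congr rfl hthrough,
    Finset.sum_const, smul_eq_mul, hJcard, hS, ← Set.ncard_eq_toFinset_card',
    ← Nat.card_eq_fintype_card, ← IsSymDesign.card_eq (P := P) (L := L)] at h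
  exact h

/-- A line has at most `t + 1` points. -/
theorem IsAxial.line_le (hA : IsAxial G P B N) {p q : P} (hpq : p ≠ q) {t : ℕ} (hp : p ∈ B)
    (ht : Nat.card (part L N p) = t) : (line L p q).ncard ≤ t + 1 := by
  obtain ⟨t', ht2, hkl, hN, hNt, hpart, -⟩ := hA.params
  obtain rfl : t' = t := (hpart p hp).symm.trans ht
  obtain ⟨d, rfl⟩ : ∃ d, t' = d + 2 := ⟨t' - 2, by omega⟩
  have hv := hD.big
  have hlt := hD.lt
  have h := line_ncard_mul (L := L) hpq
  have hk' : k = l * (d + 2) + 1 := by omega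
  have hP : Nat.card P = k * (d + 2) + 1 := by
    have e2 : Nat.card P = k * (d + 2 - 1) + 1 + k := by omega
    rw [e2]
    simp only [Nat.add_succ_sub_one, add_zero]
    ring
  by_contra hc
  push Not at hc
  have hmul : (d + 4) * (k - l) ≤ (line L p q).ncard * (k - l) := Nat.mul_le_mul_right _ (by omega)
  have hsub : k - l = l * (d + 1) + 1 := by
    rw [hk', mul_add l d 2, mul_add l d 1]
    omega
  rw [hsub] at hmul h
  rw [hP, hk'] at h
  nlinarith

/-- Two parts span a union of parts. -/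
theorem IsAxial.part_le_sup (hA : IsAxial G P B N) {p q r : P} (hp : p ∈ B) (hq : q ∈ B) (hr : r ∈ B)
    (hpq : p ≠ q) (h : r ∈ line L p q ∨ ∃ g ∈ part L N p ⊔ part L N q, g ≠ 1 ∧ g ∈ part L N r) :
    part L N r ≤ part L N p ⊔ part L N q := by
  classical
  cases nonempty_fintype P
  cases nonempty_fintype G
  obtain ⟨t, ht2, -, -, -, hpart, -⟩ := hA.params
  have hle : part L N p ⊔ part L N q ≤ N := sup_le inf_le_left inf_le_left
  -- centres of the span lie on the line
  have hline : ∀ {g : G} {z : P}, g ∈ part L N p ⊔ part L N q → g ≠ 1 → g ∈ part L N z → z ∈ line L p q := by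
    intro g z hg hg1 hgz C hpC hqC
    refine (hA.smul_eq_iff hgz hg1 C).1 ?_
    have hfix : part L N p ⊔ part L N q ≤ stabilizer G C :=
      sup_le (fun a ha => mem_stabilizer_iff.2 (ha.2 C hpC)) (fun a ha => mem_stabilizer_iff.2 (ha.2 C hqC))
    exact mem_stabilizer_iff.1 (hfix hg)
  have hr' : r ∈ line L p q := h.elim id fun ⟨g, hg, hg1, hgr⟩ => hline hg hg1 hgr
  have honB : ∀ z ∈ line L p q, z ∈ B := fun z hz => hz B hp hq
  set W := part L N p ⊔ part L N q
  have hW : t * t ≤ Nat.card W := by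
    let f : part L N p × part L N q → W := fun x =>
      ⟨x.1 * x.2, mul_mem (Subgroup.mem_sup_left x.1.2) (Subgroup.mem_sup_right x.2.2)⟩
    have hf : Function.Injective f := by
      rintro ⟨a, b⟩ ⟨a', b'⟩ he
      have he' : (a : G) * b = a' * b' := congrArg Subtype.val he
      have h1 : (a' : G)⁻¹ * a = b' * (b : G)⁻¹ := by
        rw [eq_mul_inv_iff_mul_eq, mul_assoc, he', inv_mul_cancel_left]
      have h2 := hA.part_inf hpq (mul_mem (inv_mem a'.2) a.2) (h1 ▸ mul_mem b'.2 (inv_mem b.2))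
      exact Prod.ext (Subtype.ext (inv_mul_eq_one.1 h2).symm) (Subtype.ext (mul_inv_eq_one.1 (h1 ▸ h2)).symm)
    have h1 := Nat.card_le_card_of_injective f hf
    rwa [Nat.card_prod, show Nat.card (part L N p) = t from hpart p hp,
      show Nat.card (part L N q) = t from hpart q hq] at h1
  let U : Finset G := (line L p q).toFinset.biUnion fun z => (part L N z : Set G).toFinset.erase 1
  have hU : (W : Set G).toFinset.erase 1 ⊆ U := by
    intro g hg
    rw [Finset.mem_erase, Set.mem_toFinset] at hg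
    obtain ⟨z, -, hz⟩ := hA.exists_part (hle hg.2)
    exact Finset.mem_biUnion.2 ⟨z, Set.mem_toFinset.2 (hline hg.2 hg.1 hz),
      Finset.mem_erase.2 ⟨hg.1, Set.mem_toFinset.2 hz⟩⟩
  have hUcard : U.card ≤ (t + 1) * (t - 1) := by
    refine Finset.card_biUnion_le.trans ((Finset.sum_le_card_nsmul _ _ (t - 1) fun z hz => ?_).trans ?_)
    · rw [Finset.card_erase_of_mem (Set.mem_toFinset.2 (one_mem _)), ← Set.ncard_eq_toFinset_card',
        ← Nat.card_coe_set_eq]
      exact (congrArg (· - 1) (hpart z (honB z (Set.mem_toFinset.1 hz)))).le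
    · rw [smul_eq_mul, ← Set.ncard_eq_toFinset_card']
      exact Nat.mul_le_mul_right _ (hA.line_le hpq hp (hpart p hp))
  have hWcard : (t + 1) * (t - 1) ≤ ((W : Set G).toFinset.erase 1).card := by
    rw [Finset.card_erase_of_mem (Set.mem_toFinset.2 (one_mem _)), ← Set.ncard_eq_toFinset_card',
      ← Nat.card_coe_set_eq]
    obtain ⟨d, rfl⟩ : ∃ d, t = d + 1 := ⟨t - 1, by omega⟩
    rw [Nat.add_sub_cancel]
    refine le_trans ?_ (Nat.sub_le_sub_right hW 1)
    have : (d + 1) * (d + 1) = (d + 1 + 1) * d + 1 := by ring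
    omega
  have heq := Finset.eq_of_subset_of_card_le hU (hUcard.trans hWcard)
  intro g hg
  by_cases hg1 : g = 1
  · exact hg1 ▸ one_mem _
  have hgU : g ∈ U := Finset.mem_biUnion.2 ⟨r, Set.mem_toFinset.2 hr',
    Finset.mem_erase.2 ⟨hg1, Set.mem_toFinset.2 hg⟩⟩
  rw [← heq] at hgU
  exact Set.mem_toFinset.1 (Finset.mem_erase.1 hgU).2

end CfsgLib.DesignAxial
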